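import Mathlib
import Cfsg.Agent.Lib.H33.M24Cls
set_option autoImplicit false
open Cfsg

/-! Certificate data (generated). -/

namespace H33.D1604
open H8.GolayCode H8.GolayCount H33.M24Tab H33.M24Cls

def o0 : ℕ := 0x149f
def ts : List ℕ := [0x916b66de6b8b9e749110150ca60c20, 0x944d49aec5836a2411f71b92753020]
theorem ts_ok : H33.BitSet.allL ts (okS [0, 1] [o0]) = true := by decide +kernel
theorem o0_ok : o0 < 2 ^ 24 ∧ cw (o0 % 4096) = o0 ∧ pop o0 = 8 ∧ Nat.testBit o0 0 = true ∧ Nat.testBit o0 1 = true := by decide +kernel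
def st2 : List (ℕ × ℕ) :=
  [(0x56123, 0), (0x56123, 1), (0x81c843, 0), (0xa02a23, 0), (0x164a03, 0), (0x164a03, 1), (0x248343,
  0), (0xc84303, 1), (0x50a903, 0), (0xb30103, 0), (0xb30103, 1), (0x438223, 0), (0xa0963, 0),
  (0x192243, 1), (0x38c023, 0)]
def L2 : List ℕ :=
  [0x626043, 0x38c023, 0x192243, 0xa0963, 0xd40063, 0x6d0803, 0x438223, 0x8ea003, 0xb30103, 0x50a903,
  0xc84303, 0x248343, 0x164a03, 0xa02a23, 0x81c843, 0x56123]
def P2 (n : ℕ) : Bool := Nat.testBit n 0 && Nat.testBit n 1 && Nat.beq (pop n) 8 && Nat.beq (pop (Nat.land o0 n)) 2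
theorem st2_ok : (st2.all fun a => decide (a.2 < ts.length)) = true := by decide +kernel
theorem L2_ok : orbT ts [0x56123] st2 = L2 := by decide +kernel
theorem P2_ok : allB (fun n => !(P2 n) || H33.BitSet.memB L2 n) basisL 0 = true := by decide +kernel
theorem C2_ok : cntB P2 basisL 0 = 16 := by decide +kernel
def st4 : List (ℕ × ℕ) :=
  [(0x46e3, 0), (0x46e3, 1), (0x104157, 0), (0x104157, 1), (0xe21b, 0), (0xe21b, 1), (0x51440b, 0),
  (0x51440b, 1), (0x907083, 0), (0x907083, 1), (0x2d503, 0), (0x2d503, 1), (0x21a483, 0), (0x21a483,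
  1), (0x405833, 1), (0x122433, 0), (0x122433, 1), (0x44c087, 0), (0x44c087, 1), (0x34200f, 0),
  (0x34200f, 1), (0xb4093, 0), (0xb4093, 1), (0xc12017, 0), (0xc12017, 1), (0x228817, 0), (0x228817,
  1), (0x22387, 0), (0x700293, 0), (0x700293, 1), (0x82402f, 0), (0x82402f, 1), (0x3380b, 0),
  (0xe0900b, 1), (0x86c07, 1), (0x4820ab, 0), (0x48c2b, 0), (0x48c2b, 1), (0x2610a3, 0), (0x2610a3,
  1), (0x4111c3, 0), (0x9810f, 1), (0x1280cb, 0), (0x443603, 0), (0x70447, 0), (0xb067, 1), (0x821253,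
  0), (0x400a4f, 0), (0x891423, 0), (0x891423, 1), (0x8081b3, 1), (0x215207, 0), (0x10132b, 1),
  (0xc0237, 0), (0x85028b, 0), (0x908607, 0), (0x908607, 1), (0x80254b, 1), (0x46011b, 1)]
def L4 : List ℕ :=
  [0xc20c83, 0xa44413, 0x159013, 0x46011b, 0x841907, 0x80254b, 0x908607, 0x20498b, 0x85028b, 0xc0237,
  0x428d3, 0x10132b, 0x1c0583, 0x215207, 0x98081b, 0x8081b3, 0x5a1007, 0x891423, 0x1108a7, 0x400a4f,
  0xa800c7, 0x10f13, 0x821253, 0xb067, 0x283113, 0x70447, 0x89a83, 0x443603, 0xc504b, 0x1280cb,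
  0x600527, 0x9810f, 0x4111c3, 0x2a060b, 0x2610a3, 0x48c2b, 0x4820ab, 0x86c07, 0x301c43, 0xe0900b,
  0x3380b, 0x82402f, 0x700293, 0x488453, 0x22387, 0x21007b, 0x228817, 0xc12017, 0xb4093, 0x34200f,
  0x44c087, 0x122433, 0x405833, 0x21a483, 0x2d503, 0x907083, 0x51440b, 0xe21b, 0x104157, 0x46e3]
def P4 (n : ℕ) : Bool := Nat.testBit n 0 && Nat.testBit n 1 && Nat.beq (pop n) 8 && Nat.beq (pop (Nat.land o0 n)) 4
theorem st4_ok : (st4.all fun a => decide (a.2 < ts.length)) = true := by decide +kernel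
theorem L4_ok : orbT ts [0x46e3] st4 = L4 := by decide +kernel
theorem P4_ok : allB (fun n => !(P4 n) || H33.BitSet.memB L4 n) basisL 0 = true := by decide +kernel
theorem C4_ok : cntB P4 basisL 0 = 60 := by decide +kernel

end H33.D1604
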