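import Mathlib
import Cfsg.Agent.Lib.H33.M24Pts
set_option autoImplicit false
open Cfsg

/-! Certificate data for M12 (generated). -/

namespace H33.DM12
open H8.GolayCode H8.GolayCount H33.M24Tab H33.M24Cls H33.M24Pts

def tsD0 : List ℕ := [0x236af88af0459402b969350e364a61, 0x21a560b075429d36a4f4595e204617]
theorem tsD0_ok : H33.BitSet.allL tsD0 (okS [] [0xaf101f]) = true := by decide +kernel
def spD0 : List (ℕ × ℕ) := [(0, 0), (0, 1), (1, 0), (1, 1), (23, 0), (19, 0), (16, 1), (4, 0), (4, 1), (21, 1), (3, 0)]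
theorem spD0_ok : (spD0.all fun a => decide (a.2 < tsD0.length)) = true := by decide +kernel
def LpD0 : List ℕ := [12, 18, 2, 3, 21, 17, 4, 16, 19, 23, 1, 0]
theorem LpD0_ok : orbP tsD0 [0] spD0 = LpD0 := by decide +kernel
def tsD1 : List ℕ := [0x121948ce035bd213bac6534a4956e0, 0x9baa58904c6bcd7a1ecb4a91280460]
theorem tsD1_ok : H33.BitSet.allL tsD1 (okS [0] [0xaf101f]) = true := by decide +kernel
def spD1 : List (ℕ × ℕ) := [(1, 0), (1, 1), (23, 0), (23, 1), (3, 0), (3, 1), (2, 0), (19, 0), (18, 1), (16, 1)]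
theorem spD1_ok : (spD1.all fun a => decide (a.2 < tsD1.length)) = true := by decide +kernel
def LpD1 : List ℕ := [12, 4, 17, 21, 16, 18, 19, 2, 3, 23, 1]
theorem LpD1_ok : orbP tsD1 [1] spD1 = LpD1 := by decide +kernel
def tsD2 : List ℕ := [0x8186964ef22a14473ec75b682ac420, 0xba64a98aa43a0c32aece6be8c84420]
theorem tsD2_ok : H33.BitSet.allL tsD2 (okS [0, 1] [0xaf101f]) = true := by decide +kernel
def spD2 : List (ℕ × ℕ) := [(2, 0), (17, 0), (17, 1), (23, 0), (21, 0), (21, 1), (16, 1), (18, 0), (4, 1)]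
theorem spD2_ok : (spD2.all fun a => decide (a.2 < tsD2.length)) = true := by decide +kernel
def LpD2 : List ℕ := [12, 19, 4, 18, 3, 16, 21, 23, 17, 2]
theorem LpD2_ok : orbP tsD2 [2] spD2 = LpD2 := by decide +kernel
def tsD3 : List ℕ := [0xb958995491559d33be8642da380820, 0x1d09664232595b3799283a9d5b8820]
theorem tsD3_ok : H33.BitSet.allL tsD3 (okS [0, 1, 2] [0xaf101f]) = true := by decide +kernel
def spD3 : List (ℕ × ℕ) := [(3, 0), (3, 1), (16, 0), (16, 1), (17, 0), (18, 0), (21, 0), (12, 0)]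
theorem spD3_ok : (spD3.all fun a => decide (a.2 < tsD3.length)) = true := by decide +kernel
def LpD3 : List ℕ := [19, 12, 21, 4, 18, 17, 23, 16, 3]
theorem LpD3_ok : orbP tsD3 [3] spD3 = LpD3 := by decide +kernel
def tsD4 : List ℕ := [0x22e6894195a1df7b38cd2a55118820, 0x9998a89217720f24b565a59f518820]
theorem tsD4_ok : H33.BitSet.allL tsD4 (okS [0, 1, 2, 3] [0xaf101f]) = true := by decide +kernel
def spD4 : List (ℕ × ℕ) := [(4, 0), (4, 1), (17, 0), (17, 1), (21, 0), (12, 0), (12, 1)]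
theorem spD4_ok : (spD4.all fun a => decide (a.2 < tsD4.length)) = true := by decide +kernel
def LpD4 : List ℕ := [18, 23, 19, 16, 12, 21, 17, 4]
theorem LpD4_ok : orbP tsD4 [4] spD4 = LpD4 := by decide +kernel
def tsC0 : List ℕ := [0x61456986b241db14aa867b96385c80, 0x9beeb8c023720e251934b15b265480]
theorem tsC0_ok : H33.BitSet.allL tsC0 (okS [0] [0xaf101f]) = true := by decide +kernel
def spC0 : List (ℕ × ℕ) := [(5, 0), (5, 1), (11, 0), (11, 1), (13, 1), (9, 0), (10, 1), (7, 0), (7, 1), (6, 0), (15, 0)]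
theorem spC0_ok : (spC0.all fun a => decide (a.2 < tsC0.length)) = true := by decide +kernel
def LpC0 : List ℕ := [8, 14, 22, 15, 6, 20, 7, 10, 9, 13, 11, 5]
theorem LpC0_ok : orbP tsC0 [5] spC0 = LpC0 := by decide +kernel
def tsC1 : List ℕ := [0x6222f14a153a9a372d26a58a4b8660, 0x1ac4a60677750c4434f64bcb584640]
theorem tsC1_ok : H33.BitSet.allL tsC1 (okS [0, 5] [0xaf101f]) = true := by decide +kernel
def spC1 : List (ℕ × ℕ) := [(6, 0), (6, 1), (22, 0), (22, 1), (15, 0), (15, 1), (7, 0), (7, 1), (14, 0), (10, 1)]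
theorem spC1_ok : (spC1.all fun a => decide (a.2 < tsC1.length)) = true := by decide +kernel
def LpC1 : List ℕ := [13, 10, 9, 20, 14, 7, 11, 8, 15, 22, 6]
theorem LpC1_ok : orbP tsC1 [6] spC1 = LpC1 := by decide +kernel
def tsC2 : List ℕ := [0x8d20998a4441dd75596d798a30b2a0, 0x952168de757a5ac41dcb518a320820]
theorem tsC2_ok : H33.BitSet.allL tsC2 (okS [0, 5, 6] [0xaf101f]) = true := by decide +kernel
def spC2 : List (ℕ × ℕ) := [(7, 0), (7, 1), (15, 0), (10, 0), (8, 0), (8, 1), (22, 0), (13, 0), (20, 0)]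
theorem spC2_ok : (spC2.all fun a => decide (a.2 < tsC2.length)) = true := by decide +kernel
def LpC2 : List ℕ := [9, 14, 20, 11, 13, 22, 8, 10, 15, 7]
theorem LpC2_ok : orbP tsC2 [7] spC2 = LpC2 := by decide +kernel
def tsE : List ℕ := [0x62a668d6432a0f04b5eeb5164b8820, 0x9a08b946e369decb3954494d0a8820]
theorem tsE_ok : H33.BitSet.allL tsE (okS [0, 1, 2] [0xaf101f]) = true := by decide +kernel
def spE : List (ℕ × ℕ) := [(5, 0), (5, 1), (11, 0), (11, 1), (6, 0), (9, 0), (9, 1), (22, 1), (15, 1), (10, 1), (13, 0)]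
theorem spE_ok : (spE.all fun a => decide (a.2 < tsE.length)) = true := by decide +kernel
def LpE : List ℕ := [7, 14, 13, 8, 10, 15, 20, 22, 9, 6, 11, 5]
theorem LpE_ok : orbP tsE [5] spE = LpE := by decide +kernel

end H33.DM12
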