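import Mathlib
import Cfsg.Prelude.Def_SporadicCombinatorics
import Cfsg.Agent.Lib.H33.BitSet2
set_option autoImplicit false
open Cfsg

/-! The hexacode over an arbitrary field with four elements, through base 4 codes. -/

namespace H33.Hexa
open H33.BitSet

/-- multiplication table of the field with four elements (0, 1, ω, ω²) = (0, 1, 2, 3) -/
def mulN (a b : ℕ) : ℕ := cond (Nat.beq a 0) 0 (cond (Nat.beq b 0) 0 (1 + (a + b - 2) % 3))

/-- addition -/
def addN (a b : ℕ) : ℕ := Nat.xor a b

/-- base 4 digit -/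
def digit (w i : ℕ) : ℕ := Nat.land (Nat.shiftRight w (2 * i)) 3

/-- generators, packed -/
def gen (j : ℕ) : ℕ := match j with
  | 0 => 2 + 3 * 4 + 3 * 16 + 2 * 64 + 3 * 256 + 2 * 1024
  | 1 => 3 + 2 * 4 + 2 * 16 + 3 * 64 + 3 * 256 + 2 * 1024
  | _ => 3 + 2 * 4 + 3 * 16 + 2 * 64 + 2 * 256 + 3 * 1024

/-- packed list of the 64 words; the word with index n has coefficients the base 4 digits of n -/
def CL : List ℕ :=
  [0, 3006, 3543, 1641, 3051, 85, 1596, 3458, 3453, 1731, 170, 2836, 1686, 3368, 2881, 255, 3771, 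
1285, 876, 2258, 1360, 3822, 2183, 825, 966, 2168, 3601, 1455, 2093, 915, 1530, 3652, 2013, 3171, 
2570, 436, 3126, 1928, 481, 2655, 2720, 286, 1911, 3273, 331, 2805, 3228, 1826, 2406, 728, 1201, 
3855, 653, 2355, 3930, 1252, 1051, 4005, 2508, 626, 4080, 1102, 551, 2457]

/-- coordinate `i` of the word with index `n` -/
def W (n i : ℕ) : ℕ :=
  addN (addN (mulN (digit n 0) (digit (gen 0) i)) (mulN (digit n 1) (digit (gen 1) i)))
    (mulN (digit n 2) (digit (gen 2) i))

def pack (f : ℕ → ℕ) : ℕ := f 0 + 4 * f 1 + 16 * f 2 + 64 * f 3 + 256 * f 4 + 1024 * f 5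

theorem CL_ok : allB 64 (fun n => memB CL (pack (W n))) = true := by decide +kernel

theorem CL_ok' : allL CL (fun w => Nat.blt w 4096 && anyB 64 (fun n => Nat.beq (pack (W n)) w)) = true := by
  decide +kernel

theorem CL_nodup : CL.Nodup := by decide +kernel
theorem CL_length : CL.length = 64 := by decide +kernel

/-- weight of a packed word -/
def wt (w : ℕ) : ℕ := countB 6 (fun i => !Nat.beq (digit w i) 0)

theorem CL_wt : allL CL (fun w => Nat.beq w 0 || Nat.beq (wt w) 4 || Nat.beq (wt w) 6) = true := by decide +kernel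
theorem CL_wt4 : countL CL (fun w => Nat.beq (wt w) 4) = 45 := by decide +kernel
theorem CL_wt6 : countL CL (fun w => Nat.beq (wt w) 6) = 18 := by decide +kernel

/-- transversal elements: packed permutation, scalars, images of the three generators -/
def trans : List (ℕ × ℕ × ℕ) :=
  [(5517840, 1365, 65793), (4534785, 1365, 5456), (5517570, 3669, 6043), (4530435, 2901, 87963), 
(5447940, 2937, 50498), (3416325, 2925, 123664), (5517840, 1365, 65793), (4534560, 3669, 110849), 
(5513520, 2901, 111637), (3481920, 2937, 9932), (4399440, 2925, 65694), (5517840, 1365, 65793), 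
(4530960, 1365, 17429), (5448720, 4089, 161484), (3417360, 2733, 172190), (5517840, 1365, 65793), 
(3490320, 4089, 113136), (4411920, 2733, 10934)]

def imgN (T k : ℕ) : ℕ := Nat.land (Nat.shiftRight T (4 * k)) 15

def okE (e : ℕ × ℕ × ℕ) : Bool :=
  allB 6 (fun k => Nat.blt (imgN e.1 k) 6) &&
  allB 6 (fun q => anyB 6 (fun k => Nat.beq (imgN e.1 k) q)) &&
  allB 6 (fun q => !Nat.beq (digit e.2.1 q) 0) &&
  allB 3 (fun j => allB 6 (fun k =>
    Nat.beq (W (Nat.land (Nat.shiftRight e.2.2 (6 * j)) 63) (imgN e.1 k))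
      (mulN (digit e.2.1 (imgN e.1 k)) (digit (gen j) k))))

theorem trans_ok : allL trans okE = true := by decide +kernel

theorem trans_cover : allB 4 (fun i => allB 6 (fun q => Nat.blt q i ||
    anyL trans (fun e => Nat.beq (imgN e.1 i) q && allB i (fun j => Nat.beq (imgN e.1 j) j)))) = true := by
  decide +kernel

/-- the transposition of the first two coordinates does not lift -/
theorem swap_bad : allB 4096 (fun c => !allB 6 (fun i => !Nat.beq (digit c i) 0) ||
    anyB 3 (fun j => !memB CL (pack (fun i => mulN (digit c i)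
      (digit (gen j) (match i with | 0 => 1 | 1 => 0 | i => i)))))) = true := by
  decide +kernel

/-- any two coordinates lie in the support of a word of weight 4 -/
theorem pair_cover : allB 6 (fun i => allB 6 (fun j => anyL CL (fun w => Nat.beq (wt w) 4 &&
    !Nat.beq (digit w i) 0 && !Nat.beq (digit w j) 0))) = true := by
  decide +kernel

end H33.Hexa
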