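import Mathlib
import Cfsg.Agent.Lib.H33.Leech1
set_option autoImplicit false
open Cfsg

/-! Configurations of short vectors in the Leech lattice, II: orthogonal pairs of minimal vectors. -/

namespace H33.Leech2
open Finset H9.Leech H9.LeechGood H8.GolayCode H8.GolayCount H8.GolayBasic H33.Leech1

/-- four base points -/
def P : GolayPt := pt 0
def Q : GolayPt := pt 1
def R : GolayPt := pt 2
def S : GolayPt := pt 3

theorem pt_inj {i j : ℕ} (hi : i < 24) (hj : j < 24) (h : pt i = pt j) : i = j := by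
  rw [← idx_pt i hi, ← idx_pt j hj, h]

theorem PQ : P ≠ Q := fun h => by have := pt_inj (by norm_num) (by norm_num) h; omega
theorem PR : P ≠ R := fun h => by have := pt_inj (by norm_num) (by norm_num) h; omega
theorem PS : P ≠ S := fun h => by have := pt_inj (by norm_num) (by norm_num) h; omega
theorem QR : Q ≠ R := fun h => by have := pt_inj (by norm_num) (by norm_num) h; omega
theorem QS : Q ≠ S := fun h => by have := pt_inj (by norm_num) (by norm_num) h; omega
theorem RS : R ≠ S := fun h => by have := pt_inj (by norm_num) (by norm_num) h; omega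

/-- vectors supported on two points -/
def E (p q : GolayPt) (a b : ℤ) (h : ∃ k, a + b = 2 * k) : leechLattice :=
  ⟨Pi.single p (4 * a) + Pi.single q (4 * b), by
    refine Rep.mem_leech (m := 0) (c := ∅) (y := Pi.single p a + Pi.single q b) ⟨empty_mem, fun i => ?_, ?_⟩
    · simp only [ind, notMem_empty, if_false, Pi.add_apply, mul_zero, zero_add, Pi.single_apply]
      split_ifs <;> ring
    · obtain ⟨k, hk⟩ := h
      refine ⟨k, ?_⟩
      simp only [Pi.add_apply, sum_add_distrib, sum_pi_single', mem_univ, if_true]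
      rw [hk]; ring⟩

theorem coe_E (p q : GolayPt) (a b : ℤ) (h : ∃ k, a + b = 2 * k) :
    ((E p q a b h : leechLattice) : GolayPt → ℤ) = Pi.single p (4 * a) + Pi.single q (4 * b) := rfl

theorem norm_E {p q : GolayPt} (hpq : p ≠ q) (a b : ℤ) (h : ∃ k, a + b = 2 * k) :
    sqNorm ((E p q a b h : leechLattice) : GolayPt → ℤ) = 16 * (a ^ 2 + b ^ 2) := by
  rw [← dot_self, coe_E, dot_add, dot_single, dot_single, Pi.add_apply, Pi.add_apply, Pi.single_eq_same,
    Pi.single_eq_same, Pi.single_eq_of_ne hpq, Pi.single_eq_of_ne hpq.symm]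
  ring

theorem dot_E (p q : GolayPt) (a b : ℤ) (h : ∃ k, a + b = 2 * k) (x : GolayPt → ℤ) :
    dotInt ((E p q a b h : leechLattice) : GolayPt → ℤ) x = 4 * a * x p + 4 * b * x q := by
  rw [coe_E, dot_add, dot_single, dot_single]

/-- the standard orthogonal pair -/
def A : leechLattice := E P Q 1 1 ⟨1, rfl⟩
def B : leechLattice := E P Q 1 (-1) ⟨0, rfl⟩

theorem coe_A : (A : GolayPt → ℤ) = Pi.single P 4 + Pi.single Q 4 := rfl
theorem coe_B : (B : GolayPt → ℤ) = Pi.single P 4 + Pi.single Q (-4) := rfl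

theorem AB : A + B = e8 P := by
  apply Subtype.ext
  rw [AddSubgroup.coe_add, coe_A, coe_B, coe_e8]
  funext i
  simp only [Pi.add_apply, Pi.single_apply]
  split_ifs <;> norm_num

theorem dotA (x : GolayPt → ℤ) : dotInt (A : GolayPt → ℤ) x = 4 * x P + 4 * x Q := by
  have := dot_E P Q 1 1 ⟨1, rfl⟩ x
  rw [show (A : GolayPt → ℤ) = (E P Q 1 1 ⟨1, rfl⟩ : GolayPt → ℤ) from rfl, this]; ring

theorem dotB (x : GolayPt → ℤ) : dotInt (B : GolayPt → ℤ) x = 4 * x P - 4 * x Q := by
  have := dot_E P Q 1 (-1) ⟨0, rfl⟩ x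
  rw [show (B : GolayPt → ℤ) = (E P Q 1 (-1) ⟨0, rfl⟩ : GolayPt → ℤ) from rfl, this]; ring

theorem normA : sqNorm (A : GolayPt → ℤ) = 32 := by
  rw [show (A : GolayPt → ℤ) = (E P Q 1 1 ⟨1, rfl⟩ : GolayPt → ℤ) from rfl, norm_E PQ]; norm_num

theorem normB : sqNorm (B : GolayPt → ℤ) = 32 := by
  rw [show (B : GolayPt → ℤ) = (E P Q 1 (-1) ⟨0, rfl⟩ : GolayPt → ℤ) from rfl, norm_E PQ]; norm_num

theorem signed_single (σ : Equiv.Perm GolayPt) (c : Finset GolayPt) (p : GolayPt) (a : ℤ) :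
    signedPerm σ c (Pi.single p a) = Pi.single (σ p) (if σ p ∈ c then -a else a) := by
  rw [signedPerm_eq, single_comp]
  funext i
  by_cases hi : i = σ p
  · subst hi; rw [Pi.single_eq_same, Pi.single_eq_same]
  · rw [Pi.single_eq_of_ne hi, Pi.single_eq_of_ne hi]; simp

theorem mono_E {σ : Equiv.Perm GolayPt} (hσ : σ ∈ M24) {c : Finset GolayPt} (hc : c ∈ GS) (p q : GolayPt) (a b : ℤ)
    (h : ∃ k, a + b = 2 * k) : ((mono σ hσ c hc • E p q a b h : leechLattice) : GolayPt → ℤ) =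
      Pi.single (σ p) (if σ p ∈ c then -(4 * a) else 4 * a) +
      Pi.single (σ q) (if σ q ∈ c then -(4 * b) else 4 * b) := by
  rw [coe_mono, coe_E, signed_add, signed_single, signed_single]

theorem mono_e8 {σ : Equiv.Perm GolayPt} (hσ : σ ∈ M24) {c : Finset GolayPt} (hc : c ∈ GS) {p : GolayPt}
    (h : σ p ∉ c) : mono σ hσ c hc • e8 p = e8 (σ p) := by
  apply Subtype.ext
  rw [coe_mono, coe_e8, coe_e8, signed_single, if_neg h]

/-- a code word with given mask -/
theorem mask_mem {c : ℕ} (h : c < 2 ^ 24) (h' : cw (c % 4096) = c) : support₂ (wd c) ∈ GS :=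
  ⟨wd c, (wd_mem_iff h).2 h', rfl⟩

theorem pt_mem {c i : ℕ} (hi : i < 24) : pt i ∈ support₂ (wd c) ↔ c.testBit i = true := by
  rw [mem_support_wd, idx_pt i hi]

/-- a code word avoiding `P` and containing `Q` -/
theorem exists_code_Q : ∃ c ∈ GS, P ∉ c ∧ Q ∈ c := by
  refine ⟨support₂ (wd 0x49f002), mask_mem (by decide) (by decide +kernel), ?_, ?_⟩
  · rw [P, pt_mem (by norm_num)]; decide
  · rw [Q, pt_mem (by norm_num)]; decide

/-- Orthogonal pairs of minimal vectors form one orbit. -/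
theorem pair0 {v v' : leechLattice} (hv : sqNorm (v : GolayPt → ℤ) = 32) (hv' : sqNorm (v' : GolayPt → ℤ) = 32)
    (h : dotInt (v : GolayPt → ℤ) (v' : GolayPt → ℤ) = 0) : ∃ g : Co0, g • v = A ∧ g • v' = B := by
  have h64 : sqNorm ((v + v' : leechLattice) : GolayPt → ℤ) = 64 := by
    have h1 := sqNorm_add (v : GolayPt → ℤ) (v' : GolayPt → ℤ)
    rw [AddSubgroup.coe_add]
    rw [← dot_self] at h1 ⊢
    rw [h1, hv, hv', h]
    norm_num
  obtain ⟨g1, hg1⟩ := exists_to_e8 h64 P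
  set x := g1 • v with hx
  set x' := g1 • v' with hx'
  have hxx : x + x' = e8 P := by rw [hx, hx', ← co0_add, hg1]
  have hnx : sqNorm (x : GolayPt → ℤ) = 32 := by rw [hx, co0_norm, hv]
  have hd : dotInt (x' : GolayPt → ℤ) (x : GolayPt → ℤ) = 0 := by rw [hx, hx', co0_dot, dot_comm, h]
  have hxP : (x : GolayPt → ℤ) P = 4 := by
    have h1 : dotInt ((e8 P : leechLattice) : GolayPt → ℤ) (x : GolayPt → ℤ) = 32 := by
      rw [← hxx, AddSubgroup.coe_add, dot_add, dot_self, hnx, hd]; norm_num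
    rw [coe_e8, dot_single] at h1
    omega
  have hs : ∑ i ∈ ({P} : Finset GolayPt)ᶜ, (x : GolayPt → ℤ) i ^ 2 = 16 := by
    have h1 := Finset.sum_compl_add_sum ({P} : Finset GolayPt) (fun i => (x : GolayPt → ℤ) i ^ 2)
    rw [sum_singleton, hxP] at h1
    have h2 : ∑ i, (x : GolayPt → ℤ) i ^ 2 = 32 := hnx
    rw [h2] at h1
    linarith
  obtain ⟨j, hj, hj4, hj0⟩ := four_lemma x.2 {P} (singleton_nonempty P) (by
    intro i hi
    rw [mem_singleton] at hi
    subst hi
    exact ⟨1, hxP⟩) hs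
  rw [mem_singleton] at hj
  obtain ⟨σ, hσ, hσl⟩ := trans_list [P, j] [P, Q] (by simpa using Ne.symm hj) (by simpa using PQ) rfl (by simp)
  simp only [List.map_cons, List.map_nil, List.cons.injEq, and_true] at hσl
  obtain ⟨hσP, hσj⟩ := hσl
  have hxe : (x : GolayPt → ℤ) = Pi.single P 4 + Pi.single j ((x : GolayPt → ℤ) j) := by
    funext i
    rw [Pi.add_apply]
    by_cases hi : i = P
    · subst hi; rw [Pi.single_eq_same, Pi.single_eq_of_ne (Ne.symm hj), hxP]; norm_num
    · by_cases hij : i = j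
      · subst hij; rw [Pi.single_eq_same, Pi.single_eq_of_ne hi]; norm_num
      · rw [Pi.single_eq_of_ne hi, Pi.single_eq_of_ne hij, hj0 i (by rwa [mem_singleton]) hij]; norm_num
  obtain ⟨c, hc, hPc, hQc⟩ : ∃ c ∈ GS, P ∉ c ∧ (if Q ∈ c then -((x : GolayPt → ℤ) j) else (x : GolayPt → ℤ) j) = 4 := by
    rcases hj4 with h4 | h4
    · exact ⟨∅, empty_mem, notMem_empty _, by rw [if_neg (notMem_empty _), h4]⟩
    · obtain ⟨c, hc, h1, h2⟩ := exists_code_Q
      exact ⟨c, hc, h1, by rw [if_pos h2, h4]; norm_num⟩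
  have hA : mono σ hσ c hc • x = A := by
    apply Subtype.ext
    rw [coe_mono, hxe, signed_add, signed_single, signed_single, hσP, hσj, if_neg hPc, hQc]
    rfl
  have hE : mono σ hσ c hc • e8 P = e8 P := by
    have := mono_e8 hσ hc (p := P) (by rw [hσP]; exact hPc)
    rw [hσP] at this
    exact this
  refine ⟨mono σ hσ c hc * g1, by rw [mul_smul]; exact hA, ?_⟩
  rw [mul_smul]
  have h1 : mono σ hσ c hc • x + mono σ hσ c hc • x' = A + B := by
    rw [← co0_add, hxx, hE, AB]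
  rw [hA] at h1
  exact add_left_cancel h1

/-- `Co0` is transitive on minimal vectors -/
theorem to_A {v : leechLattice} (hv : sqNorm (v : GolayPt → ℤ) = 32) : ∃ g : Co0, g • v = A := by
  -- two coordinates of the same absolute value
  have hle : ∀ i, ((v : GolayPt → ℤ) i).natAbs < 6 := by
    intro i
    have h1 : (v : GolayPt → ℤ) i ^ 2 ≤ 32 := by
      rw [← hv]
      exact single_le_sum (f := fun i => (v : GolayPt → ℤ) i ^ 2) (fun j _ => sq_nonneg _) (mem_univ i)
    by_contra hc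
    have h2 : 6 ≤ ((v : GolayPt → ℤ) i).natAbs := by omega
    have h3 : ((v : GolayPt → ℤ) i) ^ 2 = (((v : GolayPt → ℤ) i).natAbs : ℤ) ^ 2 := by simp
    rw [h3] at h1
    have h4 : (6 : ℤ) ≤ (((v : GolayPt → ℤ) i).natAbs : ℤ) := by exact_mod_cast h2
    nlinarith
  obtain ⟨i, -, j, -, hij, hf⟩ := Finset.exists_ne_map_eq_of_card_lt_of_maps_to (s := (univ : Finset GolayPt))
    (t := range 6) (f := fun i => ((v : GolayPt → ℤ) i).natAbs) (by
      rw [card_range, card_univ, card_pt]; norm_num) (fun i _ => by simpa using hle i)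
  have hf' : (v : GolayPt → ℤ) i = (v : GolayPt → ℤ) j ∨ (v : GolayPt → ℤ) i = -(v : GolayPt → ℤ) j :=
    Int.natAbs_eq_natAbs_iff.1 hf
  obtain ⟨v', hv', hd⟩ : ∃ v' : leechLattice, sqNorm (v' : GolayPt → ℤ) = 32 ∧
      dotInt (v' : GolayPt → ℤ) (v : GolayPt → ℤ) = 0 := by
    rcases hf' with h | h
    · refine ⟨E i j 1 (-1) ⟨0, rfl⟩, by rw [norm_E hij]; norm_num, ?_⟩
      rw [dot_E, h]; ring
    · refine ⟨E i j 1 1 ⟨1, rfl⟩, by rw [norm_E hij]; norm_num, ?_⟩
      rw [dot_E, h]; ring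
  obtain ⟨g, hg, -⟩ := pair0 hv hv' (by rw [dot_comm]; exact hd)
  exact ⟨g, hg⟩

end H33.Leech2
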