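import Mathlib
import Cfsg.Agent.Lib.H33.Leech2
set_option autoImplicit false
open Cfsg

/-! Configurations of short vectors in the Leech lattice, III: shapes, and pairs with inner product -8, -16. -/

namespace H33.Leech3
open Finset H9.Leech H9.LeechGood H8.GolayCode H8.GolayCount H8.GolayBasic H33.Leech1 H33.Leech2

/-- the sign of a code word -/
def eps (c : Finset GolayPt) (i : GolayPt) : ℤ := if i ∈ c then -1 else 1

theorem eps_sq (c : Finset GolayPt) (i : GolayPt) : eps c i * eps c i = 1 := by
  unfold eps; split_ifs <;> norm_num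

/-- normal form of the even vectors -/
theorem even_form {x : GolayPt → ℤ} {c : Finset GolayPt} {y : GolayPt → ℤ} (h : Rep x 0 c y) :
    4 * (c.card : ℤ) ≤ sqNorm x := by
  calc (4 * c.card : ℤ) = ∑ i ∈ c, (4 : ℤ) := by rw [Finset.sum_const, nsmul_eq_mul]; ring
    _ ≤ ∑ i ∈ c, x i ^ 2 := by
      apply sum_le_sum
      intro i hi
      have h1 := h.eq i
      simp only [ind, if_pos hi] at h1
      rcases le_or_gt (x i) 0 with h2 | h2
      · have : x i ≤ -2 := by omega
        nlinarith
      · have : 2 ≤ x i := by omega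
        nlinarith
    _ ≤ ∑ i, x i ^ 2 := sum_le_sum_of_subset_of_nonneg (subset_univ _) fun i _ _ => sq_nonneg _

/-- normal form of the odd vectors: `x = ε_c (1 + 4 z)` with `∑ z` odd -/
theorem odd_form {x : GolayPt → ℤ} {c : Finset GolayPt} {y : GolayPt → ℤ} (h : Rep x 1 c y) :
    ∃ z : GolayPt → ℤ, (∀ i, x i = eps c i * (1 + 4 * z i)) ∧ ∃ k, ∑ i, z i = 1 + 2 * k := by
  refine ⟨fun i => if i ∈ c then -1 - y i else y i, fun i => ?_, ?_⟩
  · rw [h.eq i]
    show _ = eps c i * (1 + 4 * (if i ∈ c then -1 - y i else y i))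
    unfold eps ind
    split_ifs <;> ring
  · obtain ⟨t, ht⟩ := four_dvd h.mem
    obtain ⟨k, hk⟩ := h.par
    have : ∀ i, (if i ∈ c then -1 - y i else y i) = y i - ind c i - 2 * (ind c i * y i) := by
      intro i; unfold ind; split_ifs <;> ring
    refine ⟨k - 2 * t - ∑ i, ind c i * y i, ?_⟩
    rw [sum_congr rfl fun i _ => this i, sum_sub_distrib, sum_sub_distrib, sum_ind, ← mul_sum, hk, ht]
    ring

theorem odd_norm {x : GolayPt → ℤ} {c : Finset GolayPt} {z : GolayPt → ℤ}
    (h : ∀ i, x i = eps c i * (1 + 4 * z i)) : sqNorm x = 24 + 8 * ∑ i, z i * (2 * z i + 1) := by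
  unfold sqNorm
  have h1 : ∀ i, x i ^ 2 = 1 + 8 * (z i * (2 * z i + 1)) := by
    intro i
    have := eps_sq c i
    rw [h i]
    linear_combination (1 + 4 * z i) ^ 2 * this
  rw [sum_congr rfl fun i _ => h1 i, sum_add_distrib, ← mul_sum, Finset.sum_const, card_univ, card_pt]
  norm_num

theorem z_nonneg (z : ℤ) : 0 ≤ z * (2 * z + 1) := by
  rcases le_or_gt 0 z with h | h
  · positivity
  · have : z ≤ -1 := by omega
    nlinarith

/-- shapes of the minimal vectors -/
theorem classify32 {x : GolayPt → ℤ} (hx : x ∈ leechLattice) (hn : sqNorm x = 32) :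
    (∃ i j, i ≠ j ∧ (x i = 4 ∨ x i = -4) ∧ (x j = 4 ∨ x j = -4) ∧ ∀ k, k ≠ i → k ≠ j → x k = 0) ∨
    (∃ O ∈ octads, (∀ i ∈ O, x i = 2 ∨ x i = -2) ∧ ∀ i ∉ O, x i = 0) ∨
    (∃ c ∈ GS, ∃ j, ∀ i, x i = eps c i * (if i = j then -3 else 1)) := by
  rcases exists_rep hx with ⟨c, y, h⟩ | ⟨c, y, h⟩
  · have h1 := even_form h
    rw [hn] at h1
    have h2 : c.card = 0 ∨ c.card = 8 := by
      rcases weight_cases h.mem with h2 | h2 | h2 | h2 | h2
      · exact Or.inl h2
      · exact Or.inr h2
      all_goals (exfalso; rw [h2] at h1; norm_num at h1)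
    rcases h2 with h2 | h2
    · left
      rw [card_eq_zero] at h2
      subst h2
      have hy : ∀ i, x i = 4 * y i := by
        intro i
        have := h.eq i
        simp only [ind, notMem_empty, if_false] at this
        linarith
      have hs : ∑ i, y i ^ 2 = 2 := by
        have : sqNorm x = 16 * ∑ i, y i ^ 2 := by
          unfold sqNorm
          rw [mul_sum]; exact sum_congr rfl fun i _ => by rw [hy]; ring
        rw [hn] at this
        omega
      have h3 : ∃ i, y i ≠ 0 := by
        by_contra hc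
        push Not at hc
        rw [sum_eq_zero (fun i _ => by rw [hc i]; rfl)] at hs
        exact absurd hs (by norm_num)
      obtain ⟨i, hi⟩ := h3
      have h4 := Finset.add_sum_erase univ (fun i => y i ^ 2) (mem_univ i)
      have h4' : y i ^ 2 + ∑ k ∈ univ.erase i, y k ^ 2 = 2 := by rw [← hs]; exact h4
      have h5 : 0 ≤ ∑ k ∈ univ.erase i, y k ^ 2 := sum_nonneg fun i _ => sq_nonneg _
      have h6 : y i = 1 ∨ y i = -1 := by
        have : y i ^ 2 ≤ 2 := by omega
        have h7 : y i ≤ 1 := by nlinarith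
        have h8 : -1 ≤ y i := by nlinarith
        omega
      have h9 : ∑ k ∈ univ.erase i, y k ^ 2 = 1 := by
        rcases h6 with h6 | h6 <;> rw [h6] at h4' <;> linarith
      obtain ⟨j, hj, hj1, hj2⟩ := sum_sq_one _ _ h9
      rw [mem_erase] at hj
      refine ⟨i, j, hj.1.symm, ?_, ?_, ?_⟩
      · rw [hy]; rcases h6 with h | h <;> rw [h] <;> simp
      · rw [hy]; rcases hj1 with h | h <;> rw [h] <;> simp
      · intro k hki hkj
        rw [hy, hj2 k (mem_erase.2 ⟨hki, mem_univ _⟩) hkj]; rfl
    · right; left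
      have hsum : ∑ i, (x i ^ 2 - 4 * ind c i) = 0 := by
        rw [sum_sub_distrib, ← mul_sum, sum_ind, h2]
        have : ∑ i, x i ^ 2 = 32 := hn
        rw [this]; norm_num
      have hnn : ∀ i ∈ (univ : Finset GolayPt), 0 ≤ x i ^ 2 - 4 * ind c i := by
        intro i _
        have h1 := h.eq i
        unfold ind at h1 ⊢
        split_ifs at h1 ⊢ with hi
        · rcases le_or_gt (x i) 0 with h2 | h2
          · have : x i ≤ -2 := by omega
            nlinarith
          · have : 2 ≤ x i := by omega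
            nlinarith
        · nlinarith [sq_nonneg (x i)]
      have h0 := (sum_eq_zero_iff_of_nonneg hnn).1 hsum
      refine ⟨c, ⟨h.mem, h2⟩, ?_, ?_⟩
      · intro i hi
        have h3 := h0 i (mem_univ i)
        simp only [ind, if_pos hi] at h3
        have h4 : (x i - 2) * (x i + 2) = 0 := by linarith [sq (x i)]
        rcases mul_eq_zero.1 h4 with h5 | h5
        · left; omega
        · right; omega
      · intro i hi
        have h3 := h0 i (mem_univ i)
        simp only [ind, if_neg hi] at h3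
        have h4 : x i ^ 2 = 0 := by linarith
        exact (pow_eq_zero_iff two_ne_zero).1 h4
  · right; right
    obtain ⟨z, hz, k, hk⟩ := odd_form h
    have h1 := odd_norm hz
    rw [hn] at h1
    have h2 : ∑ i, z i * (2 * z i + 1) = 1 := by omega
    have h3 : ∃ i, z i * (2 * z i + 1) ≠ 0 := by
      by_contra hc
      push Not at hc
      rw [sum_eq_zero (fun i _ => hc i)] at h2
      exact absurd h2 (by norm_num)
    obtain ⟨j, hj⟩ := h3
    have h4 := Finset.add_sum_erase univ (fun i => z i * (2 * z i + 1)) (mem_univ j)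
    have h4' : z j * (2 * z j + 1) + ∑ k ∈ univ.erase j, z k * (2 * z k + 1) = 1 := h4.trans h2
    have h5 : 0 ≤ ∑ k ∈ univ.erase j, z k * (2 * z k + 1) := sum_nonneg fun i _ => z_nonneg _
    have h6 := z_nonneg (z j)
    have h7 : z j * (2 * z j + 1) = 1 := by omega
    have h8 : ∑ k ∈ univ.erase j, z k * (2 * z k + 1) = 0 := by omega
    have h9 : z j = -1 := by
      have h10 : (z j + 1) * (2 * z j - 1) = 0 := by linarith
      rcases mul_eq_zero.1 h10 with h11 | h11 <;> omega
    have h10 := (sum_eq_zero_iff_of_nonneg (fun i _ => z_nonneg (z i))).1 h8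
    refine ⟨c, h.mem, j, fun i => ?_⟩
    rw [hz i]
    by_cases hij : i = j
    · rw [if_pos hij, hij, h9]; norm_num
    · rw [if_neg hij]
      have := h10 i (mem_erase.2 ⟨hij, mem_univ _⟩)
      rcases mul_eq_zero.1 this with h11 | h11
      · rw [h11]; norm_num
      · omega

end H33.Leech3
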