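import Mathlib
import Cfsg.Agent.Lib.H33.Leech3
set_option autoImplicit false
open Cfsg

/-! Configurations of short vectors in the Leech lattice, IV: pairs with inner product -8. -/

namespace H33.Leech4
open Finset H9.Leech H9.LeechGood H8.GolayCode H8.GolayCount H8.GolayBasic H33.Leech1 H33.Leech2 H33.Leech3

theorem two_dvd_signs {s t : ℤ} (hs : s = 1 ∨ s = -1) (ht : t = 1 ∨ t = -1) : ∃ k, s + t = 2 * k := by
  rcases hs with rfl | rfl <;> rcases ht with rfl | rfl
  · exact ⟨1, rfl⟩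
  · exact ⟨0, rfl⟩
  · exact ⟨0, rfl⟩
  · exact ⟨-1, rfl⟩

/-- sign choice -/
theorem exists_sign (a : ℤ) : ∃ s : ℤ, (s = 1 ∨ s = -1) ∧ s * a = |a| := by
  rcases le_or_gt 0 a with h | h
  · exact ⟨1, Or.inl rfl, by rw [abs_of_nonneg h]; ring⟩
  · exact ⟨-1, Or.inr rfl, by rw [abs_of_neg h]; ring⟩

/-- a vector of shape (4,4) with prescribed inner product -/
theorem exists_E (w : GolayPt → ℤ) {i j : GolayPt} (hij : i ≠ j) (hi : i ≠ P ∧ i ≠ Q) (hj : j ≠ P ∧ j ≠ Q)
    {n : ℤ} (hn : |w i| + |w j| = n) :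
    (∃ v' : leechLattice, sqNorm (v' : GolayPt → ℤ) = 32 ∧ dotInt (A : GolayPt → ℤ) v' = 0 ∧
      dotInt (B : GolayPt → ℤ) v' = 0 ∧
      dotInt (v' : GolayPt → ℤ) w = 4 * n) ∧
    (∃ v' : leechLattice, sqNorm (v' : GolayPt → ℤ) = 32 ∧ dotInt (A : GolayPt → ℤ) v' = 0 ∧
      dotInt (B : GolayPt → ℤ) v' = 0 ∧
      dotInt (v' : GolayPt → ℤ) w = -(4 * n)) := by
  obtain ⟨s, hs, hs'⟩ := exists_sign (w i)
  obtain ⟨t, ht, ht'⟩ := exists_sign (w j)
  have hn1 : s ^ 2 = 1 := by rcases hs with rfl | rfl <;> norm_num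
  have hn2 : t ^ 2 = 1 := by rcases ht with rfl | rfl <;> norm_num
  have h0 : ∀ (a b : ℤ) (h : ∃ k, a + b = 2 * k) (q : GolayPt), q ≠ i → q ≠ j →
      ((E i j a b h : leechLattice) : GolayPt → ℤ) q = 0 := by
    intro a b h q h1 h2
    rw [coe_E, Pi.add_apply, Pi.single_eq_of_ne h1, Pi.single_eq_of_ne h2]; rfl
  have hs1 : -s = 1 ∨ -s = -1 := by rcases hs with rfl | rfl <;> simp
  have ht1 : -t = 1 ∨ -t = -1 := by rcases ht with rfl | rfl <;> simp
  constructor
  · refine ⟨E i j s t (two_dvd_signs hs ht), by rw [norm_E hij, hn1, hn2]; norm_num, ?_, ?_, ?_⟩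
    · rw [dotA, h0 _ _ _ _ (Ne.symm hi.1) (Ne.symm hj.1), h0 _ _ _ _ (Ne.symm hi.2) (Ne.symm hj.2)]; norm_num
    · rw [dotB, h0 _ _ _ _ (Ne.symm hi.1) (Ne.symm hj.1), h0 _ _ _ _ (Ne.symm hi.2) (Ne.symm hj.2)]; norm_num
    · rw [dot_E, ← hn, ← hs', ← ht']; ring
  · refine ⟨E i j (-s) (-t) (two_dvd_signs hs1 ht1), by rw [norm_E hij, neg_sq, neg_sq, hn1, hn2]; norm_num, ?_, ?_, ?_⟩
    · rw [dotA, h0 _ _ _ _ (Ne.symm hi.1) (Ne.symm hj.1), h0 _ _ _ _ (Ne.symm hi.2) (Ne.symm hj.2)]; norm_num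
    · rw [dotB, h0 _ _ _ _ (Ne.symm hi.1) (Ne.symm hj.1), h0 _ _ _ _ (Ne.symm hi.2) (Ne.symm hj.2)]; norm_num
    · rw [dot_E, ← hn, ← hs', ← ht']; ring

/-- three points give one outside two -/
theorem exists_two_mem {O : Finset GolayPt} (h : 4 ≤ O.card) : ∃ i ∈ O, ∃ j ∈ O, i ≠ j ∧ (i ≠ P ∧ i ≠ Q) ∧ (j ≠ P ∧ j ≠ Q) := by
  have h1 : 2 ≤ ((O.erase P).erase Q).card := by
    have h2 := Finset.pred_card_le_card_erase (s := O) (a := P)
    have h3 := Finset.pred_card_le_card_erase (s := O.erase P) (a := Q)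
    omega
  obtain ⟨i, hi, j, hj, hij⟩ := Finset.one_lt_card.1 (by omega : 1 < ((O.erase P).erase Q).card)
  simp only [mem_erase] at hi hj
  exact ⟨i, hi.2.2, j, hj.2.2, hij, ⟨hi.2.1, hi.1⟩, ⟨hj.2.1, hj.1⟩⟩

/-- the vector `(-3, 1, ..., 1)` -/
def W0 : leechLattice := ⟨fun i => if i = P then -3 else 1, by
  refine Rep.mem_leech (m := 1) (c := ∅) (y := Pi.single P (-1)) ⟨empty_mem, fun i => ?_, ⟨-1, ?_⟩⟩
  · simp only [ind, notMem_empty, if_false, Pi.single_apply]
    split_ifs <;> ring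
  · rw [sum_pi_single']; simp⟩

theorem coe_W0 (i : GolayPt) : (W0 : GolayPt → ℤ) i = if i = P then -3 else 1 := rfl

theorem one_mem : (1 : Equiv.Perm GolayPt) ∈ M24 := M24.one_mem

/-- sign changes as elements of `Co0` -/
theorem coe_sign {c : Finset GolayPt} (hc : c ∈ GS) (x : leechLattice) :
    ((mono 1 one_mem c hc • x : leechLattice) : GolayPt → ℤ) = fun i => eps c i * (x : GolayPt → ℤ) i := by
  rw [coe_mono]
  funext i
  show (if i ∈ c then -(x : GolayPt → ℤ) i else (x : GolayPt → ℤ) i) = _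
  unfold eps
  split_ifs <;> ring

theorem sign_A {c : Finset GolayPt} (hc : c ∈ GS) (hP : P ∉ c) (hQ : Q ∉ c) : mono 1 one_mem c hc • A = A := by
  apply Subtype.ext
  rw [coe_mono, coe_A, signed_add, signed_single, signed_single]
  show Pi.single P (if P ∈ c then -4 else 4) + Pi.single Q (if Q ∈ c then -4 else 4) = _
  rw [if_neg hP, if_neg hQ]

theorem sign_B {c : Finset GolayPt} (hc : c ∈ GS) (hP : P ∉ c) (hQ : Q ∉ c) : mono 1 one_mem c hc • B = B := by
  apply Subtype.ext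
  rw [coe_mono, coe_B, signed_add, signed_single, signed_single]
  show Pi.single P (if P ∈ c then -4 else 4) + Pi.single Q (if Q ∈ c then - -4 else -4) = _
  rw [if_neg hP, if_neg hQ]

theorem abs_eps (c : Finset GolayPt) (i : GolayPt) : |eps c i| = 1 := by unfold eps; split_ifs <;> rfl

/-- an odd-shaped vector is determined up to sign by its large coordinate -/
theorem canonC {w : leechLattice} (hw : sqNorm (w : GolayPt → ℤ) = 32) (hP : (w : GolayPt → ℤ) P = -3)
    (hQ : (w : GolayPt → ℤ) Q = 1) : ∃ g : Co0, g • A = A ∧ g • B = B ∧ g • w = W0 := by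
  rcases classify32 w.2 hw with ⟨i, j, hij, hi, hj, h0⟩ | ⟨O, hO, h1, h2⟩ | ⟨c, hc, j, h⟩
  · exfalso
    by_cases hPi : P = i
    · subst hPi; omega
    · by_cases hPj : P = j
      · subst hPj; omega
      · have := h0 P hPi hPj; omega
  · exfalso
    by_cases hPO : P ∈ O
    · have := h1 P hPO; omega
    · have := h2 P hPO; omega
  · have hjP : P = j := by
      by_contra hne
      have := h P
      rw [if_neg hne, hP] at this
      unfold eps at this
      split_ifs at this <;> omega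
    subst hjP
    have hPc : P ∉ c := by
      intro hPc
      have := h P
      rw [if_pos rfl, hP] at this
      unfold eps at this
      rw [if_pos hPc] at this
      omega
    have hQc : Q ∉ c := by
      intro hQc
      have := h Q
      rw [if_neg PQ.symm, hQ] at this
      unfold eps at this
      rw [if_pos hQc] at this
      omega
    refine ⟨mono 1 one_mem c hc, sign_A hc hPc hQc, sign_B hc hPc hQc, ?_⟩
    apply Subtype.ext
    rw [coe_sign]
    funext i
    rw [h i, coe_W0, ← mul_assoc, eps_sq, one_mul]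

/-- Pairs of minimal vectors with inner product -8 form one orbit. -/
theorem pairC {v w : leechLattice} (hv : sqNorm (v : GolayPt → ℤ) = 32) (hw : sqNorm (w : GolayPt → ℤ) = 32)
    (h : dotInt (v : GolayPt → ℤ) (w : GolayPt → ℤ) = -8) : ∃ g : Co0, g • v = A ∧ g • w = W0 := by
  obtain ⟨g0, hg0⟩ := to_A hv
  set x := g0 • w with hx
  have hnx : sqNorm (x : GolayPt → ℤ) = 32 := by rw [hx, co0_norm, hw]
  have hd : 4 * (x : GolayPt → ℤ) P + 4 * (x : GolayPt → ℤ) Q = -8 := by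
    rw [← dotA, ← hg0, hx, co0_dot, h]
  obtain ⟨v', hv', hAv, hvx⟩ : ∃ v' : leechLattice, sqNorm (v' : GolayPt → ℤ) = 32 ∧
      dotInt (A : GolayPt → ℤ) v' = 0 ∧ dotInt (v' : GolayPt → ℤ) x = -16 := by
    rcases classify32 x.2 hnx with ⟨i, j, hij, hi, hj, h0⟩ | ⟨O, hO, h1, h2⟩ | ⟨c, hc, j, h⟩
    · exfalso
      have h4 : ∀ k, (4 : ℤ) ∣ (x : GolayPt → ℤ) k := by
        intro k
        by_cases hki : k = i
        · subst hki; rcases hi with h | h <;> rw [h] <;> decide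
        · by_cases hkj : k = j
          · subst hkj; rcases hj with h | h <;> rw [h] <;> decide
          · rw [h0 k hki hkj]; exact dvd_zero _
      have h5 := h4 P
      have h6 := h4 Q
      omega
    · obtain ⟨i, hi, j, hj, hij, hi', hj'⟩ := exists_two_mem (O := O) (by rw [hO.2]; norm_num)
      obtain ⟨-, v', h3, h4, -, h5⟩ := exists_E x hij hi' hj' (n := 4) (by
        rcases h1 i hi with h | h <;> rcases h1 j hj with h' | h' <;> rw [h, h'] <;> rfl)
      exact ⟨v', h3, h4, by rw [h5]; norm_num⟩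
    · by_cases hjP : j = P
      · subst hjP
        have hP := h P
        have hQ := h Q
        rw [if_pos rfl] at hP
        rw [if_neg PQ.symm] at hQ
        refine ⟨B, normB, ?_, ?_⟩
        · rw [dot_comm, dotB]; simp [coe_A, Pi.single_apply, PQ, PQ.symm]
        · rw [dotB]; unfold eps at hP hQ; split_ifs at hP hQ <;> omega
      · by_cases hjQ : j = Q
        · subst hjQ
          have hP := h P
          have hQ := h Q
          rw [if_pos rfl] at hQ
          rw [if_neg PQ] at hP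
          refine ⟨-B, by rw [AddSubgroup.coe_neg, sqNorm_neg, normB], ?_, ?_⟩
          · rw [dot_comm, AddSubgroup.coe_neg, dot_neg, dotB]; simp [coe_A, Pi.single_apply, PQ, PQ.symm]
          · rw [AddSubgroup.coe_neg, dot_neg, dotB]; unfold eps at hP hQ; split_ifs at hP hQ <;> omega
        · obtain ⟨i, hi, hij⟩ : ∃ i, (i ≠ P ∧ i ≠ Q) ∧ i ≠ j := by
            obtain ⟨i, hi, i', hi', hii, h3, h4⟩ := exists_two_mem (O := univ) (by rw [card_univ, card_pt]; norm_num)
            by_cases hij : i = j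
            · exact ⟨i', h4, fun hh => hii (hij.trans hh.symm)⟩
            · exact ⟨i, h3, hij⟩
          obtain ⟨-, v', h3, h4, -, h5⟩ := exists_E x hij hi ⟨hjP, hjQ⟩ (n := 4) (by
            rw [h i, h j, if_neg hij, if_pos rfl, abs_mul, abs_mul, abs_eps, abs_eps]; rfl)
          exact ⟨v', h3, h4, by rw [h5]; norm_num⟩
  obtain ⟨g1, hg1, hg1'⟩ := pair0 normA hv' hAv
  set z := g1 • x with hz
  have hnz : sqNorm (z : GolayPt → ℤ) = 32 := by rw [hz, co0_norm, hnx]
  have h1 : 4 * (z : GolayPt → ℤ) P + 4 * (z : GolayPt → ℤ) Q = -8 := by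
    rw [← dotA, ← hg1, hz, co0_dot, dotA, hd]
  have h2 : 4 * (z : GolayPt → ℤ) P - 4 * (z : GolayPt → ℤ) Q = -16 := by
    rw [← dotB, ← hg1', hz, co0_dot, hvx]
  obtain ⟨g2, h3, h4, h5⟩ := canonC hnz (by omega) (by omega)
  refine ⟨g2 * g1 * g0, ?_, ?_⟩
  · rw [mul_smul, mul_smul, hg0, hg1, h3]
  · rw [mul_smul, mul_smul, ← hx, ← hz, h5]

end H33.Leech4
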