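import Mathlib
import Cfsg.Agent.Lib.H33.Leech4
set_option autoImplicit false
open Cfsg

/-! Configurations of short vectors in the Leech lattice, V: pairs with inner product -16. -/

namespace H33.Leech5
open Finset H9.Leech H9.LeechGood H8.GolayCode H8.GolayCount H8.GolayBasic H33.Leech1 H33.Leech2 H33.Leech3 H33.Leech4

theorem dot_vec (l : List ℤ) (f : ℕ → ℤ) (x : GolayPt → ℤ) (hx : ∀ i < 24, x (pt i) = f i) :
    dotInt (vec l) x = ∑ i ∈ range 24, l.getD i 0 * f i := by
  unfold dotInt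
  rw [sum_pt]
  exact sum_congr rfl fun i hi => by rw [vec_pt l (mem_range.1 hi), hx i (mem_range.1 hi)]

theorem norm_vec (l : List ℤ) : sqNorm (vec l) = ∑ i ∈ range 24, l.getD i 0 ^ 2 := by
  unfold sqNorm
  rw [sum_pt]
  exact sum_congr rfl fun i hi => by rw [vec_pt l (mem_range.1 hi)]

theorem eps_symmDiff (c d : Finset GolayPt) (i : GolayPt) : eps (symmDiff c d) i = eps c i * eps d i := by
  unfold eps
  by_cases h1 : i ∈ c <;> by_cases h2 : i ∈ d <;> simp [mem_symmDiff, h1, h2]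

theorem sign_sign {c d : Finset GolayPt} (hc : c ∈ GS) (hd : d ∈ GS) {x y : leechLattice}
    (h : ∀ i, (x : GolayPt → ℤ) i = eps c i * (y : GolayPt → ℤ) i) :
    mono 1 one_mem (symmDiff c d) (symmDiff_mem hc hd) • x = mono 1 one_mem d hd • y := by
  apply Subtype.ext
  rw [coe_sign, coe_sign]
  funext i
  rw [h i, eps_symmDiff]
  linear_combination (eps d i * (y : GolayPt → ℤ) i) * eps_sq c i

def c1 : Finset GolayPt := support₂ (wd 0x49f002)
theorem c1_mem : c1 ∈ GS := mask_mem (by decide) (by decide +kernel)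
theorem P_c1 : P ∉ c1 := by rw [c1, P, pt_mem (by norm_num)]; decide
theorem Q_c1 : Q ∈ c1 := by rw [c1, Q, pt_mem (by norm_num)]; decide
theorem eps_mask (c : ℕ) {i : ℕ} (hi : i < 24) : eps (support₂ (wd c)) (pt i) = bif c.testBit i then -1 else 1 := by
  unfold eps
  by_cases h : c.testBit i = true
  · rw [if_pos ((pt_mem hi).2 h), h]; rfl
  · rw [if_neg (fun hh => h ((pt_mem hi).1 hh))]
    rw [Bool.not_eq_true] at h
    rw [h]; rfl

theorem eps_c1 {i : ℕ} (hi : i < 24) : eps c1 (pt i) = bif (0x49f002 : ℕ).testBit i then -1 else 1 :=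
  eps_mask _ hi

def W1 : leechLattice := mono 1 one_mem c1 c1_mem • W0

theorem W1_pt {i : ℕ} (hi : i < 24) : (W1 : GolayPt → ℤ) (pt i) =
    (bif (0x49f002 : ℕ).testBit i then -1 else 1) * (if i = 0 then -3 else 1) := by
  unfold W1
  rw [coe_sign]
  show eps c1 (pt i) * (W0 : GolayPt → ℤ) (pt i) = _
  rw [eps_c1 hi, coe_W0]
  congr 1
  by_cases h : i = 0
  · subst h; rw [if_pos rfl]; rfl
  · rw [if_neg h, if_neg]
    intro h2
    exact h (pt_inj hi (by norm_num) h2)

def V1l : List ℤ := [-2, 2, 2, 2, 2, 0, 0, 2, 0, 0, 2, 0, -2, 0, 0, 0, 0, 0, 0, 0, 0, 0, 0, 0]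

def V1 : leechLattice := ⟨vec V1l, vec_mem (m := 0) (c := 0x149f) (by decide +kernel)⟩

theorem V1_norm : sqNorm (V1 : GolayPt → ℤ) = 32 := by
  rw [V1, norm_vec]; decide +kernel

theorem V1_A : dotInt (A : GolayPt → ℤ) V1 = 0 := by
  rw [dotA]
  show 4 * vec V1l (pt 0) + 4 * vec V1l (pt 1) = 0
  rw [vec_pt _ (by norm_num), vec_pt _ (by norm_num)]; rfl

theorem V1_W1 : dotInt (V1 : GolayPt → ℤ) W1 = 16 := by
  rw [V1, dot_vec _ _ _ (fun i hi => W1_pt hi)]; decide +kernel

/-- the canonical partner -/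
def X1 : leechLattice := E Q R (-1) 1 ⟨0, rfl⟩

theorem coe_X1 : (X1 : GolayPt → ℤ) = Pi.single Q (-4) + Pi.single R 4 := rfl

/-- a code word avoiding `P`, `Q` and containing `R` -/
theorem exists_code_R : ∃ c ∈ GS, P ∉ c ∧ Q ∉ c ∧ R ∈ c := by
  refine ⟨support₂ (wd 0xd4b004), mask_mem (by decide) (by decide +kernel), ?_, ?_, ?_⟩
  · rw [P, pt_mem (by norm_num)]; decide
  · rw [Q, pt_mem (by norm_num)]; decide
  · rw [R, pt_mem (by norm_num)]; decide

theorem mono_A {σ : Equiv.Perm GolayPt} (hσ : σ ∈ M24) {c : Finset GolayPt} (hc : c ∈ GS) (h1 : σ P = P)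
    (h2 : σ Q = Q) (hP : P ∉ c) (hQ : Q ∉ c) : mono σ hσ c hc • A = A := by
  apply Subtype.ext
  rw [coe_mono, coe_A, signed_add, signed_single, signed_single, h1, h2, if_neg hP, if_neg hQ]

theorem mono_B {σ : Equiv.Perm GolayPt} (hσ : σ ∈ M24) {c : Finset GolayPt} (hc : c ∈ GS) (h1 : σ P = P)
    (h2 : σ Q = Q) (hP : P ∉ c) (hQ : Q ∉ c) : mono σ hσ c hc • B = B := by
  apply Subtype.ext
  rw [coe_mono, coe_B, signed_add, signed_single, signed_single, h1, h2, if_neg hP, if_neg hQ]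

theorem canonB {w : leechLattice} (hw : sqNorm (w : GolayPt → ℤ) = 32) (hP : (w : GolayPt → ℤ) P = 0)
    (hQ : (w : GolayPt → ℤ) Q = -4) : ∃ g : Co0, g • A = A ∧ g • B = B ∧ g • w = X1 := by
  have hs : ∑ i ∈ ({P, Q} : Finset GolayPt)ᶜ, (w : GolayPt → ℤ) i ^ 2 = 16 := by
    have h1 := Finset.sum_compl_add_sum ({P, Q} : Finset GolayPt) (fun i => (w : GolayPt → ℤ) i ^ 2)
    rw [sum_pair PQ, hP, hQ] at h1
    have h2 : ∑ i, (w : GolayPt → ℤ) i ^ 2 = 32 := hw
    rw [h2] at h1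
    linarith
  obtain ⟨j, hj, hj4, hj0⟩ := four_lemma w.2 {P, Q} ⟨P, by simp⟩ (by
    intro i hi
    rw [mem_insert, mem_singleton] at hi
    rcases hi with rfl | rfl
    · rw [hP]; exact dvd_zero _
    · rw [hQ]; decide) hs
  simp only [mem_insert, mem_singleton, not_or] at hj hj0
  obtain ⟨σ, hσ, hσl⟩ := trans_list [P, Q, j] [P, Q, R] (by simp [PQ, Ne.symm hj.1, Ne.symm hj.2])
    (by simp [PQ, PR, QR]) rfl (by simp)
  simp only [List.map_cons, List.map_nil, List.cons.injEq, and_true] at hσl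
  obtain ⟨hσP, hσQ, hσj⟩ := hσl
  have hxe : (w : GolayPt → ℤ) = Pi.single Q (-4) + Pi.single j ((w : GolayPt → ℤ) j) := by
    funext i
    rw [Pi.add_apply]
    by_cases hi : i = Q
    · subst hi; rw [Pi.single_eq_same, Pi.single_eq_of_ne (Ne.symm hj.2), hQ]; norm_num
    · by_cases hij : i = j
      · subst hij; rw [Pi.single_eq_same, Pi.single_eq_of_ne hi]; norm_num
      · rw [Pi.single_eq_of_ne hi, Pi.single_eq_of_ne hij]
        by_cases hiP : i = P
        · subst hiP; rw [hP]; norm_num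
        · rw [hj0 i ⟨hiP, hi⟩ hij]; norm_num
  obtain ⟨c, hc, hPc, hQc, hRc⟩ : ∃ c ∈ GS, P ∉ c ∧ Q ∉ c ∧
      (if R ∈ c then -((w : GolayPt → ℤ) j) else (w : GolayPt → ℤ) j) = 4 := by
    rcases hj4 with h4 | h4
    · exact ⟨∅, empty_mem, notMem_empty _, notMem_empty _, by rw [if_neg (notMem_empty _), h4]⟩
    · obtain ⟨c, hc, h1, h2, h3⟩ := exists_code_R
      exact ⟨c, hc, h1, h2, by rw [if_pos h3, h4]; norm_num⟩
  refine ⟨mono σ hσ c hc, mono_A hσ hc hσP hσQ hPc hQc, mono_B hσ hc hσP hσQ hPc hQc, ?_⟩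
  apply Subtype.ext
  rw [coe_mono, hxe, signed_add, signed_single, signed_single, hσQ, hσj, if_neg hQc, hRc]
  rfl

theorem stepB {x v' : leechLattice} (hx : sqNorm (x : GolayPt → ℤ) = 32)
    (hd : 4 * (x : GolayPt → ℤ) P + 4 * (x : GolayPt → ℤ) Q = -16)
    (hv' : sqNorm (v' : GolayPt → ℤ) = 32) (hAv : dotInt (A : GolayPt → ℤ) v' = 0)
    (hvx : dotInt (v' : GolayPt → ℤ) x = 16) : ∃ g : Co0, g • A = A ∧ g • x = X1 := by
  obtain ⟨g1, hg1, hg1'⟩ := pair0 normA hv' hAv
  set z := g1 • x with hz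
  have hnz : sqNorm (z : GolayPt → ℤ) = 32 := by rw [hz, co0_norm, hx]
  have h1 : 4 * (z : GolayPt → ℤ) P + 4 * (z : GolayPt → ℤ) Q = -16 := by
    rw [← dotA, ← hg1, hz, co0_dot, dotA, hd]
  have h2 : 4 * (z : GolayPt → ℤ) P - 4 * (z : GolayPt → ℤ) Q = 16 := by
    rw [← dotB, ← hg1', hz, co0_dot, hvx]
  obtain ⟨g2, h3, -, h5⟩ := canonB hnz (by omega) (by omega)
  exact ⟨g2 * g1, by rw [mul_smul, hg1, h3], by rw [mul_smul, ← hz, h5]⟩

theorem AdotB : dotInt (A : GolayPt → ℤ) B = 0 := by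
  rw [dotA, coe_B]; simp [PQ, PQ.symm]

theorem AdotnB : dotInt (A : GolayPt → ℤ) ((-B : leechLattice) : GolayPt → ℤ) = 0 := by
  rw [dotA, AddSubgroup.coe_neg, coe_B]; simp [PQ, PQ.symm]

theorem oddB {x : leechLattice} (hx : sqNorm (x : GolayPt → ℤ) = 32)
    (hP : (x : GolayPt → ℤ) P = -3) (hQ : (x : GolayPt → ℤ) Q = -1) : ∃ g : Co0, g • A = A ∧ g • x = X1 := by
  rcases classify32 x.2 hx with ⟨i, j, hij, hi, hj, h0⟩ | ⟨O, hO, h1, h2⟩ | ⟨c, hc, j, h⟩
  · exfalso
    by_cases hPi : P = i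
    · subst hPi; omega
    · by_cases hPj : P = j
      · subst hPj; omega
      · have := h0 P hPi hPj; omega
  · exfalso
    by_cases hPO : P ∈ O
    · have := h1 P hPO; omega
    · have := h2 P hPO; omega
  · have hjP : P = j := by
      by_contra hne
      have := h P
      rw [if_neg hne, hP] at this
      unfold eps at this
      split_ifs at this <;> omega
    subst hjP
    have hPc : P ∉ c := by
      intro hPc
      have := h P
      rw [if_pos rfl, hP] at this
      unfold eps at this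
      rw [if_pos hPc] at this
      omega
    have hQc : Q ∈ c := by
      by_contra hQc
      have := h Q
      rw [if_neg PQ.symm, hQ] at this
      unfold eps at this
      rw [if_neg hQc] at this
      omega
    have hs : mono 1 one_mem (symmDiff c c1) (symmDiff_mem hc c1_mem) • x = W1 :=
      sign_sign hc c1_mem (y := W0) h
    have hA : mono 1 one_mem (symmDiff c c1) (symmDiff_mem hc c1_mem) • A = A := by
      apply sign_A
      · rw [mem_symmDiff]; simp [hPc, P_c1]
      · rw [mem_symmDiff]; simp [hQc, Q_c1]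
    have hn : sqNorm (W1 : GolayPt → ℤ) = 32 := by rw [← hs, co0_norm, hx]
    have hd : 4 * (W1 : GolayPt → ℤ) P + 4 * (W1 : GolayPt → ℤ) Q = -16 := by
      rw [← dotA, ← hs]
      conv_lhs => rw [← hA]
      rw [co0_dot, dotA, hP, hQ]; norm_num
    obtain ⟨g, h1, h2⟩ := stepB hn hd V1_norm V1_A V1_W1
    exact ⟨g * mono 1 one_mem (symmDiff c c1) (symmDiff_mem hc c1_mem), by rw [mul_smul, hA, h1],
      by rw [mul_smul, hs, h2]⟩

/-- Pairs of minimal vectors with inner product -16 form one orbit. -/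
theorem pairB {v w : leechLattice} (hv : sqNorm (v : GolayPt → ℤ) = 32) (hw : sqNorm (w : GolayPt → ℤ) = 32)
    (h : dotInt (v : GolayPt → ℤ) (w : GolayPt → ℤ) = -16) : ∃ g : Co0, g • v = A ∧ g • w = X1 := by
  obtain ⟨g0, hg0⟩ := to_A hv
  set x := g0 • w with hx
  have hnx : sqNorm (x : GolayPt → ℤ) = 32 := by rw [hx, co0_norm, hw]
  have hd : 4 * (x : GolayPt → ℤ) P + 4 * (x : GolayPt → ℤ) Q = -16 := by
    rw [← dotA, ← hg0, hx, co0_dot, h]
  have key : ∃ g : Co0, g • A = A ∧ g • x = X1 := by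
    rcases classify32 x.2 hnx with ⟨i, j, hij, hi, hj, h0⟩ | ⟨O, hO, h1, h2⟩ | ⟨c, hc, j, h⟩
    · have hval : ∀ k, (x : GolayPt → ℤ) k = 4 ∨ (x : GolayPt → ℤ) k = -4 ∨ (x : GolayPt → ℤ) k = 0 := by
        intro k
        by_cases hki : k = i
        · subst hki; tauto
        · by_cases hkj : k = j
          · subst hkj; tauto
          · have := h0 k hki hkj; tauto
      have h5 := hval P
      have h6 := hval Q
      by_cases h7 : (x : GolayPt → ℤ) P = 0
      · exact stepB hnx hd normB AdotB (by rw [dotB]; omega)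
      · exact stepB hnx hd (v' := -B) (by rw [AddSubgroup.coe_neg, sqNorm_neg, normB]) AdotnB (by
          rw [AddSubgroup.coe_neg, dot_neg, dotB]; omega)
    · obtain ⟨i, hi, j, hj, hij, hi', hj'⟩ := exists_two_mem (O := O) (by rw [hO.2]; norm_num)
      obtain ⟨⟨v', h3, h4, -, h5⟩, -⟩ := exists_E x hij hi' hj' (n := 4) (by
        rcases h1 i hi with h | h <;> rcases h1 j hj with h' | h' <;> rw [h, h'] <;> rfl)
      exact stepB hnx hd h3 h4 (by rw [h5]; norm_num)
    · have hP := h P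
      have hQ := h Q
      unfold eps at hP hQ
      have h3 : (x : GolayPt → ℤ) P = -3 ∧ (x : GolayPt → ℤ) Q = -1 ∨
          (x : GolayPt → ℤ) P = -1 ∧ (x : GolayPt → ℤ) Q = -3 := by
        by_cases hjP : P = j
        · have hjQ : Q ≠ j := fun hh => PQ (hjP.trans hh.symm)
          rw [if_pos hjP] at hP
          rw [if_neg hjQ] at hQ
          split_ifs at hP hQ <;> omega
        · rw [if_neg hjP] at hP
          split_ifs at hP hQ <;> omega
      rcases h3 with h3 | h3
      · exact oddB hnx h3.1 h3.2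
      · obtain ⟨σ, hσ, hσl⟩ := trans_list [P, Q] [Q, P] (by simp [PQ])
          (by simp [PQ.symm]) rfl (by simp)
        simp only [List.map_cons, List.map_nil, List.cons.injEq, and_true] at hσl
        obtain ⟨hσP, hσQ⟩ := hσl
        have hσP' : σ.symm P = Q := by rw [Equiv.symm_apply_eq]; exact hσQ.symm
        have hσQ' : σ.symm Q = P := by rw [Equiv.symm_apply_eq]; exact hσP.symm
        have hsA : mono σ hσ ∅ empty_mem • A = A := by
          apply Subtype.ext
          rw [coe_mono, coe_A, signed_add, signed_single, signed_single, hσP, hσQ, if_neg (notMem_empty _),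
            if_neg (notMem_empty _), add_comm]
        obtain ⟨g, hg, hg'⟩ := oddB (x := mono σ hσ ∅ empty_mem • x) (by rw [co0_norm, hnx])
          (by rw [coe_mono, signed_empty, Function.comp_apply, hσP', h3.2])
          (by rw [coe_mono, signed_empty, Function.comp_apply, hσQ', h3.1])
        exact ⟨g * mono σ hσ ∅ empty_mem, by rw [mul_smul, hsA, hg], by rw [mul_smul, hg']⟩
  obtain ⟨g, h1, h2⟩ := key
  exact ⟨g * g0, by rw [mul_smul, hg0, h1], by rw [mul_smul, ← hx, h2]⟩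

end H33.Leech5
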