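import Mathlib
import Cfsg.Agent.Lib.H33.Leech5
set_option autoImplicit false
open Cfsg

/-! Configurations of short vectors in the Leech lattice, VI: the McLaughlin configuration, shapes. -/

namespace H33.Leech6
open Finset H9.Leech H9.LeechGood H8.GolayCode H8.GolayCount H8.GolayBasic H33.Leech1 H33.Leech2 H33.Leech3 H33.Leech4 H33.Leech5

theorem ext_pt {x y : GolayPt → ℤ} (h : ∀ i < 24, x (pt i) = y (pt i)) : x = y := by
  funext p
  rw [← pt_idx p]
  exact h _ (idx_lt p)

/-- twice the indicator of an octad -/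
def twoInd (O : Finset GolayPt) (hO : O ∈ octads) : leechLattice := ⟨fun i => 2 * ind O i, by
  refine Rep.mem_leech (m := 0) (c := O) (y := fun _ => 0) ⟨hO.1, fun i => by simp, ⟨0, by simp⟩⟩⟩

theorem coe_twoInd {O : Finset GolayPt} (hO : O ∈ octads) (i : GolayPt) :
    (twoInd O hO : GolayPt → ℤ) i = 2 * ind O i := rfl

/-- the vector `(1,...,-3,...,1)` -/
def Wj (j : GolayPt) : leechLattice := ⟨fun i => if i = j then -3 else 1, by
  refine Rep.mem_leech (m := 1) (c := ∅) (y := Pi.single j (-1)) ⟨empty_mem, fun i => ?_, ⟨-1, ?_⟩⟩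
  · simp only [ind, notMem_empty, if_false, Pi.single_apply]
    split_ifs <;> ring
  · rw [sum_pi_single']; simp⟩

theorem coe_Wj (j i : GolayPt) : (Wj j : GolayPt → ℤ) i = if i = j then -3 else 1 := rfl

/-- the odd vectors of the McLaughlin set -/
def oddV (C : Finset GolayPt) (hC : C ∈ GS) (j : GolayPt) : leechLattice := mono 1 one_mem C hC • Wj j

theorem coe_oddV {C : Finset GolayPt} (hC : C ∈ GS) (j i : GolayPt) :
    (oddV C hC j : GolayPt → ℤ) i = eps C i * (if i = j then -3 else 1) := by
  unfold oddV; rw [coe_sign]; rfl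

/-- the inner product with `W0` -/
theorem dotW0 (x : GolayPt → ℤ) : dotInt (W0 : GolayPt → ℤ) x = ∑ i, x i - 4 * x P := by
  unfold dotInt
  have : ∀ i, (W0 : GolayPt → ℤ) i * x i = x i - 4 * (if i = P then x i else 0) := by
    intro i; rw [coe_W0]; split_ifs <;> ring
  rw [sum_congr rfl fun i _ => this i, sum_sub_distrib, ← mul_sum, sum_ite_eq' univ P x, if_pos (mem_univ _)]

theorem sum_eps (c : Finset GolayPt) : ∑ i, eps c i = 24 - 2 * (c.card : ℤ) := by
  have : ∀ i, eps c i = 1 - 2 * ind c i := by intro i; unfold eps ind; split_ifs <;> ring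
  rw [sum_congr rfl fun i _ => this i, sum_sub_distrib, ← mul_sum, sum_ind, Finset.sum_const, card_univ, card_pt]
  norm_num

theorem sum_odd (c : Finset GolayPt) (j : GolayPt) :
    ∑ i, eps c i * (if i = j then -3 else 1) = 24 - 2 * (c.card : ℤ) - 4 * eps c j := by
  have : ∀ i, eps c i * (if i = j then -3 else 1) = eps c i - 4 * (if i = j then eps c i else 0) := by
    intro i; split_ifs <;> ring
  rw [sum_congr rfl fun i _ => this i, sum_sub_distrib, ← mul_sum, sum_ite_eq' univ j (eps c),
    if_pos (mem_univ _), sum_eps]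

/-- the three shapes of the McLaughlin set relative to `A`, `W0` -/
theorem shapesM {x : leechLattice} (hx : sqNorm (x : GolayPt → ℤ) = 32) (hA : dotInt (A : GolayPt → ℤ) x = 16)
    (hW : dotInt (W0 : GolayPt → ℤ) x = 8) :
    (∃ j, j ≠ P ∧ j ≠ Q ∧ x = E Q j 1 1 ⟨1, rfl⟩) ∨
    (∃ O, ∃ hO : O ∈ octads, P ∈ O ∧ Q ∈ O ∧ x = twoInd O hO) ∨
    (∃ C, ∃ hC : C ∈ octads, P ∉ C ∧ Q ∈ C ∧ x = oddV C hC.1 Q) := by
  rw [dotA] at hA
  rw [dotW0] at hW
  rcases classify32 x.2 hx with ⟨i, j, hij, hi, hj, h0⟩ | ⟨O, hO, h1, h2⟩ | ⟨c, hc, j, h⟩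
  · left
    have hsum : ∑ k, (x : GolayPt → ℤ) k = (x : GolayPt → ℤ) i + (x : GolayPt → ℤ) j := by
      rw [← sum_pair hij, eq_comm]
      apply sum_subset (subset_univ _)
      intro k _ hk
      rw [mem_insert, mem_singleton, not_or] at hk
      exact h0 k hk.1 hk.2
    rw [hsum] at hW
    have hPe : P ≠ i → P ≠ j → (x : GolayPt → ℤ) P = 0 := h0 P
    have hQe : Q ≠ i → Q ≠ j → (x : GolayPt → ℤ) Q = 0 := h0 Q
    have fin : ∀ k l, k ≠ l → (∀ m, m ≠ k → m ≠ l → (x : GolayPt → ℤ) m = 0) → Q = k → P ≠ l →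
        (x : GolayPt → ℤ) k = 4 → (x : GolayPt → ℤ) l = 4 →
        ∃ j, j ≠ P ∧ j ≠ Q ∧ x = E Q j 1 1 ⟨1, rfl⟩ := by
      intro k l hkl hm hQk hPl hk hl
      subst hQk
      refine ⟨l, hPl.symm, hkl.symm, ?_⟩
      apply Subtype.ext
      rw [coe_E]
      funext m
      rw [Pi.add_apply]
      by_cases h3 : m = Q
      · subst h3; rw [Pi.single_eq_same, Pi.single_eq_of_ne hkl, hk]; norm_num
      · by_cases h4 : m = l
        · subst h4; rw [Pi.single_eq_same, Pi.single_eq_of_ne h3, hl]; norm_num
        · rw [Pi.single_eq_of_ne h3, Pi.single_eq_of_ne h4, hm m h3 h4]; norm_num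
    by_cases hQi : Q = i
    · by_cases hPj : P = j
      · exfalso; subst hQi; subst hPj; omega
      · have hPi : P ≠ i := fun hh => PQ (hh.trans hQi.symm)
        have hP0 := hPe hPi hPj
        refine fin i j hij h0 hQi hPj ?_ ?_ <;> subst hQi <;> omega
    · by_cases hQj : Q = j
      · by_cases hPi : P = i
        · exfalso; subst hQj; subst hPi; omega
        · have hPj : P ≠ j := fun hh => PQ (hh.trans hQj.symm)
          have hP0 := hPe hPi hPj
          refine fin j i hij.symm (fun m h3 h4 => h0 m h4 h3) hQj hPi ?_ ?_ <;> subst hQj <;> omega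
      · exfalso
        have hQ0 := hQe hQi hQj
        by_cases hPi : P = i
        · subst hPi; omega
        · by_cases hPj : P = j
          · subst hPj; omega
          · have := hPe hPi hPj; omega
  · right; left
    have hval : ∀ k, (x : GolayPt → ℤ) k = 2 ∨ (x : GolayPt → ℤ) k = -2 ∨ ((x : GolayPt → ℤ) k = 0 ∧ k ∉ O) := by
      intro k
      by_cases hk : k ∈ O
      · have := h1 k hk; tauto
      · exact Or.inr (Or.inr ⟨h2 k hk, hk⟩)
    have h3 := hval P
    have h4 := hval Q
    have h5 : (x : GolayPt → ℤ) P = 2 := by omega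
    have h6 : (x : GolayPt → ℤ) Q = 2 := by omega
    have hPO : P ∈ O := by by_contra hn; have := h2 P hn; omega
    have hQO : Q ∈ O := by by_contra hn; have := h2 Q hn; omega
    have h7 : ∑ k, (2 * ind O k - (x : GolayPt → ℤ) k) = 0 := by
      rw [sum_sub_distrib, ← mul_sum, sum_ind, hO.2]
      push_cast
      linarith
    have h8 := (sum_eq_zero_iff_of_nonneg (fun k _ => by
      unfold ind
      have := hval k
      split_ifs with hk
      · omega
      · have := h2 k hk; omega)).1 h7
    refine ⟨O, hO, hPO, hQO, ?_⟩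
    apply Subtype.ext
    funext k
    rw [coe_twoInd]
    have := h8 k (mem_univ k)
    linarith
  · right; right
    have hP := h P
    have hQ := h Q
    have hs : ∑ i, (x : GolayPt → ℤ) i = 24 - 2 * (c.card : ℤ) - 4 * eps c j := by
      rw [← sum_odd c j]; exact sum_congr rfl fun i _ => h i
    rw [hs] at hW
    have hcard := weight_cases hc
    by_cases hjP : j = P
    · exfalso
      subst hjP
      rw [if_pos rfl] at hP
      rw [if_neg PQ.symm] at hQ
      have h3 : eps c P = 1 ∨ eps c P = -1 := by unfold eps; split_ifs <;> simp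
      have h4 : eps c Q = 1 ∨ eps c Q = -1 := by unfold eps; split_ifs <;> simp
      omega
    · have hjQ : j = Q := by
        by_contra hne
        rw [if_neg (Ne.symm hjP)] at hP
        rw [if_neg (Ne.symm hne)] at hQ
        have h3 : eps c P = 1 ∨ eps c P = -1 := by unfold eps; split_ifs <;> simp
        have h4 : eps c Q = 1 ∨ eps c Q = -1 := by unfold eps; split_ifs <;> simp
        omega
      subst hjQ
      rw [if_neg PQ] at hP
      rw [if_pos rfl] at hQ
      have hPc : P ∉ c := by
        intro hh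
        unfold eps at hP hQ
        rw [if_pos hh] at hP
        split_ifs at hQ <;> omega
      have hQc : Q ∈ c := by
        by_contra hh
        unfold eps at hP hQ
        rw [if_neg hh] at hQ
        split_ifs at hP <;> omega
      have h8 : c.card = 8 := by
        unfold eps at hP hQ hW
        rw [if_pos hQc] at hQ hW
        rw [if_neg hPc] at hP
        omega
      refine ⟨c, ⟨hc, h8⟩, hPc, hQc, ?_⟩
      apply Subtype.ext
      funext k
      rw [coe_oddV, h k]

end H33.Leech6
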