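import Mathlib
import Cfsg.Agent.Lib.H33.Leech6
set_option autoImplicit false
open Cfsg

/-! Configurations of short vectors in the Leech lattice, VII: the McLaughlin configuration, transitivity. -/

namespace H33.Leech7
open Finset H9.Leech H9.LeechGood H8.GolayCode H8.GolayCount H8.GolayBasic H33.Leech1 H33.Leech2 H33.Leech3 H33.Leech4 H33.Leech5 H33.Leech6

/-- pure permutations -/
def pm (σ : Equiv.Perm GolayPt) (hσ : σ ∈ M24) : Co0 := mono σ hσ ∅ empty_mem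

theorem coe_pm {σ : Equiv.Perm GolayPt} (hσ : σ ∈ M24) (x : leechLattice) :
    ((pm σ hσ • x : leechLattice) : GolayPt → ℤ) = (x : GolayPt → ℤ) ∘ σ.symm := by
  unfold pm; rw [coe_mono, signed_empty]

theorem pm_A {σ : Equiv.Perm GolayPt} (hσ : σ ∈ M24) (h1 : σ P = P) (h2 : σ Q = Q) : pm σ hσ • A = A :=
  mono_A hσ empty_mem h1 h2 (notMem_empty _) (notMem_empty _)

theorem pm_B {σ : Equiv.Perm GolayPt} (hσ : σ ∈ M24) (h1 : σ P = P) (h2 : σ Q = Q) : pm σ hσ • B = B :=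
  mono_B hσ empty_mem h1 h2 (notMem_empty _) (notMem_empty _)

theorem pm_E {σ : Equiv.Perm GolayPt} (hσ : σ ∈ M24) (p q : GolayPt) (a b : ℤ) (h : ∃ k, a + b = 2 * k) :
    pm σ hσ • E p q a b h = E (σ p) (σ q) a b h := by
  apply Subtype.ext
  unfold pm
  rw [mono_E, if_neg (notMem_empty _), if_neg (notMem_empty _), coe_E]

theorem pm_W0 {σ : Equiv.Perm GolayPt} (hσ : σ ∈ M24) (h1 : σ P = P) : pm σ hσ • W0 = W0 := by
  apply Subtype.ext
  rw [coe_pm]
  funext i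
  rw [Function.comp_apply, coe_W0, coe_W0]
  congr 1
  rw [Equiv.symm_apply_eq, h1]

theorem ind_image (σ : Equiv.Perm GolayPt) (c : Finset GolayPt) (i : GolayPt) :
    ind (c.image σ) i = ind c (σ.symm i) := by
  unfold ind
  congr 1
  rw [eq_iff_iff, mem_image]
  constructor
  · rintro ⟨a, ha, rfl⟩; rwa [Equiv.symm_apply_apply]
  · intro hh; exact ⟨_, hh, σ.apply_symm_apply i⟩

theorem eps_image (σ : Equiv.Perm GolayPt) (c : Finset GolayPt) (i : GolayPt) :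
    eps (c.image σ) i = eps c (σ.symm i) := by
  unfold eps
  congr 1
  rw [eq_iff_iff, mem_image]
  constructor
  · rintro ⟨a, ha, rfl⟩; rwa [Equiv.symm_apply_apply]
  · intro hh; exact ⟨_, hh, σ.apply_symm_apply i⟩

theorem pm_twoInd {σ : Equiv.Perm GolayPt} (hσ : σ ∈ M24) {O O' : Finset GolayPt} (hO : O ∈ octads)
    (hO' : O' ∈ octads) (h : O.image σ = O') : pm σ hσ • twoInd O hO = twoInd O' hO' := by
  apply Subtype.ext
  rw [coe_pm]
  funext i
  rw [Function.comp_apply, coe_twoInd, coe_twoInd, ← h, ind_image]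

theorem pm_oddV {σ : Equiv.Perm GolayPt} (hσ : σ ∈ M24) {C C' : Finset GolayPt} (hC : C ∈ GS)
    (hC' : C' ∈ GS) (h : C.image σ = C') {j : GolayPt} (hj : σ j = j) :
    pm σ hσ • oddV C hC j = oddV C' hC' j := by
  apply Subtype.ext
  rw [coe_pm]
  funext i
  rw [Function.comp_apply, coe_oddV, coe_oddV, ← h, eps_image]
  congr 2
  rw [Equiv.symm_apply_eq, hj]

/-- move the frame while keeping `A`, `W0` -/
theorem frameM {v' : leechLattice} (hv' : sqNorm (v' : GolayPt → ℤ) = 32) (hA : dotInt (A : GolayPt → ℤ) v' = 0)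
    (hW : dotInt (W0 : GolayPt → ℤ) v' = -16) : ∃ g : Co0, g • A = A ∧ g • W0 = W0 ∧ g • v' = B := by
  obtain ⟨g1, h1, h2⟩ := pair0 normA hv' hA
  set z := g1 • W0 with hz
  have hnW : sqNorm (W0 : GolayPt → ℤ) = 32 := by
    rw [← dot_self, dotW0, coe_W0, if_pos rfl]
    have : ∀ i, (W0 : GolayPt → ℤ) i = eps ∅ i * (if i = P then -3 else 1) := by
      intro i; rw [coe_W0]; unfold eps; simp
    rw [sum_congr rfl fun i _ => this i, sum_odd]
    unfold eps; simp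
  have hnz : sqNorm (z : GolayPt → ℤ) = 32 := by rw [hz, co0_norm, hnW]
  have h3 : 4 * (z : GolayPt → ℤ) P + 4 * (z : GolayPt → ℤ) Q = -8 := by
    rw [← dotA, ← h1, hz, co0_dot, dotA, coe_W0, coe_W0, if_pos rfl, if_neg PQ.symm]; norm_num
  have h4 : 4 * (z : GolayPt → ℤ) P - 4 * (z : GolayPt → ℤ) Q = -16 := by
    rw [← dotB, ← h2, hz, co0_dot, dot_comm, hW]
  obtain ⟨g2, h5, h6, h7⟩ := canonC hnz (by omega) (by omega)
  exact ⟨g2 * g1, by rw [mul_smul, h1, h5], by rw [mul_smul, ← hz, h7], by rw [mul_smul, h2, h6]⟩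

/-- the canonical McLaughlin point -/
def X0 : leechLattice := E Q R 1 1 ⟨1, rfl⟩

theorem dotX0 (x : GolayPt → ℤ) : dotInt (X0 : GolayPt → ℤ) x = 4 * x Q + 4 * x R := by
  unfold X0; rw [dot_E]; ring

/-- being in the McLaughlin set relative to `A`, `W0` -/
structure InM (x : leechLattice) : Prop where
  n : sqNorm (x : GolayPt → ℤ) = 32
  a : dotInt (A : GolayPt → ℤ) x = 16
  w : dotInt (W0 : GolayPt → ℤ) x = 8

theorem InM.smul {x : leechLattice} (h : InM x) {g : Co0} (h1 : g • A = A) (h2 : g • W0 = W0) : InM (g • x) := by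
  refine ⟨by rw [co0_norm, h.n], ?_, ?_⟩
  · conv_lhs => rw [← h1]
    rw [co0_dot, h.a]
  · conv_lhs => rw [← h2]
    rw [co0_dot, h.w]

theorem E_Q (j : GolayPt) (hj : j ≠ Q) : ((E Q j 1 1 ⟨1, rfl⟩ : leechLattice) : GolayPt → ℤ) Q = 4 := by
  rw [coe_E, Pi.add_apply, Pi.single_eq_same, Pi.single_eq_of_ne (Ne.symm hj)]; norm_num

theorem E_P (j : GolayPt) (hj : j ≠ P) : ((E Q j 1 1 ⟨1, rfl⟩ : leechLattice) : GolayPt → ℤ) P = 0 := by
  rw [coe_E, Pi.add_apply, Pi.single_eq_of_ne PQ, Pi.single_eq_of_ne (Ne.symm hj)]; norm_num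

theorem eps_in {c : Finset GolayPt} {i : GolayPt} (h : i ∈ c) : eps c i = -1 := if_pos h
theorem eps_out {c : Finset GolayPt} {i : GolayPt} (h : i ∉ c) : eps c i = 1 := if_neg h
theorem ind_in {c : Finset GolayPt} {i : GolayPt} (h : i ∈ c) : ind c i = 1 := if_pos h
theorem ind_out {c : Finset GolayPt} {i : GolayPt} (h : i ∉ c) : ind c i = 0 := if_neg h

/-- family A -/
theorem famA {x : leechLattice} (h : InM x) (hB : dotInt (B : GolayPt → ℤ) x = -16) :
    ∃ j, j ≠ P ∧ j ≠ Q ∧ x = E Q j 1 1 ⟨1, rfl⟩ := by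
  rw [dotB] at hB
  rcases shapesM h.n h.a h.w with h1 | ⟨O, hO, hP, hQ, rfl⟩ | ⟨C, hC, hP, hQ, rfl⟩
  · exact h1
  · rw [coe_twoInd, coe_twoInd, ind_in hP, ind_in hQ] at hB; omega
  · rw [coe_oddV, coe_oddV, eps_out hP, eps_in hQ, if_neg PQ, if_pos rfl] at hB; omega

/-- family B -/
theorem famB {x : leechLattice} (h : InM x) (hB : dotInt (B : GolayPt → ℤ) x = 0) :
    ∃ O, ∃ hO : O ∈ octads, P ∈ O ∧ Q ∈ O ∧ x = twoInd O hO := by
  rw [dotB] at hB
  rcases shapesM h.n h.a h.w with ⟨j, hj, hj', rfl⟩ | h1 | ⟨C, hC, hP, hQ, rfl⟩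
  · rw [E_P j hj, E_Q j hj'] at hB; omega
  · exact h1
  · rw [coe_oddV, coe_oddV, eps_out hP, eps_in hQ, if_neg PQ, if_pos rfl] at hB; omega

/-- canonical form of the third vector -/
theorem canonA {x : leechLattice} (h : InM x) (hB : dotInt (B : GolayPt → ℤ) x = -16) :
    ∃ g : Co0, g • A = A ∧ g • B = B ∧ g • W0 = W0 ∧ g • x = X0 := by
  obtain ⟨j, hj, hj', rfl⟩ := famA h hB
  obtain ⟨σ, hσ, hσl⟩ := trans_list [P, Q, j] [P, Q, R] (by simp [PQ, Ne.symm hj, Ne.symm hj'])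
    (by simp [PQ, PR, QR]) rfl (by simp)
  simp only [List.map_cons, List.map_nil, List.cons.injEq, and_true] at hσl
  obtain ⟨hσP, hσQ, hσj⟩ := hσl
  exact ⟨pm σ hσ, pm_A hσ hσP hσQ, pm_B hσ hσP hσQ, pm_W0 hσ hσP, by rw [pm_E, hσQ, hσj]; rfl⟩

/-! explicit data -/

theorem dot_vec_vec (l l' : List ℤ) : dotInt (vec l) (vec l') = ∑ i ∈ range 24, l.getD i 0 * l'.getD i 0 :=
  dot_vec l _ _ fun i hi => vec_pt l' hi

theorem vec_W0 : (W0 : GolayPt → ℤ) = vec [-3,1,1,1,1,1,1,1,1,1,1,1,1,1,1,1,1,1,1,1,1,1,1,1] := by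
  apply ext_pt
  intro i hi
  rw [vec_pt _ hi, coe_W0]
  rw [if_congr (show pt i = P ↔ i = 0 from ⟨fun h => pt_inj hi (by norm_num) h, fun h => by subst h; rfl⟩) rfl rfl]
  interval_cases i <;> rfl

/-- list of values of twice an indicator -/
def lInd (m : ℕ) : List ℤ := (List.range 24).map fun i => bif m.testBit i then 2 else 0

theorem getD_map_range (f : ℕ → ℤ) {i : ℕ} (hi : i < 24) : ((List.range 24).map f).getD i 0 = f i := by
  rw [List.getD_eq_getElem _ _ (by simpa using hi)]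
  simp

theorem vec_twoInd {m : ℕ} {O : Finset GolayPt} (hO : O ∈ octads) (h : O = support₂ (wd m)) :
    (twoInd O hO : GolayPt → ℤ) = vec (lInd m) := by
  subst h
  apply ext_pt
  intro i hi
  rw [vec_pt _ hi, lInd, getD_map_range _ hi, coe_twoInd]
  by_cases h : m.testBit i = true
  · rw [ind_in ((pt_mem hi).2 h), h]; rfl
  · rw [ind_out (fun hh => h ((pt_mem hi).1 hh))]
    rw [Bool.not_eq_true] at h
    rw [h]; rfl

/-- list of values of an odd vector with the large coordinate at `Q` -/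
def lOdd (m : ℕ) : List ℤ := (List.range 24).map fun i => (bif m.testBit i then -1 else 1) * (if i = 1 then -3 else 1)

theorem vec_oddV {m : ℕ} {O : Finset GolayPt} (hm : O ∈ GS) (h : O = support₂ (wd m)) :
    (oddV O hm Q : GolayPt → ℤ) = vec (lOdd m) := by
  subst h
  apply ext_pt
  intro i hi
  rw [vec_pt _ hi, lOdd, getD_map_range _ hi, coe_oddV, eps_mask _ hi]
  congr 2
  rw [eq_iff_iff]
  exact ⟨fun h => pt_inj hi (by norm_num) h, fun h => by subst h; rfl⟩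

theorem oct_mask {m : ℕ} (hm : m < 2 ^ 24) (h1 : cw (m % 4096) = m) (h2 : pop m = 8) : support₂ (wd m) ∈ octads :=
  H33.M24Cls.octad_of_mask hm h1 h2

def O1 : Finset GolayPt := support₂ (wd 0x8ea003)
theorem O1_mem : O1 ∈ octads := oct_mask (by decide) (by decide +kernel) (by decide +kernel)
def C1 : Finset GolayPt := support₂ (wd 0x49f002)
theorem C1_mem : C1 ∈ octads := oct_mask (by decide) (by decide +kernel) (by decide +kernel)
def O2 : Finset GolayPt := support₂ (wd 0x5a1007)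
theorem O2_mem : O2 ∈ octads := oct_mask (by decide) (by decide +kernel) (by decide +kernel)
def C2 : Finset GolayPt := support₂ (wd 0x9d4006)
theorem C2_mem : C2 ∈ octads := oct_mask (by decide) (by decide +kernel) (by decide +kernel)

def lB : List ℤ := [2, -2, 0, 0, 0, 0, 0, 0, 0, 0, 0, 0, 0, -2, 0, -2, 0, -2, -2, -2, 0, 0, 0, 2]
def VB : leechLattice := ⟨vec lB, vec_mem (m := 0) (c := 0x8ea003) (by decide +kernel)⟩
def lC : List ℤ := [2, -2, -2, -2, 0, 0, 0, 0, 0, 0, 0, 0, 0, 2, 0, 0, 0, 0, -2, 0, -2, -2, 0, 0]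
def VC : leechLattice := ⟨vec lC, vec_mem (m := 0) (c := 0x34200f) (by decide +kernel)⟩
def l2 : List ℤ := [2, -2, -2, 0, 0, 0, 0, 0, 0, 0, 0, 0, -2, 0, 0, 0, 0, -2, 0, -2, -2, 0, 2, 0]
def V2 : leechLattice := ⟨vec l2, vec_mem (m := 0) (c := 0x5a1007) (by decide +kernel)⟩

theorem frame_vec {l : List ℤ} {v' : leechLattice} (hv : (v' : GolayPt → ℤ) = vec l)
    (h1 : (∑ i ∈ range 24, l.getD i 0 ^ 2) = 32) (h2 : l.getD 0 0 + l.getD 1 0 = 0)
    (h3 : (∑ i ∈ range 24, l.getD i 0 * ([-3,1,1,1,1,1,1,1,1,1,1,1,1,1,1,1,1,1,1,1,1,1,1,1] : List ℤ).getD i 0) = -16) :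
    ∃ g : Co0, g • A = A ∧ g • W0 = W0 ∧ g • v' = B := by
  apply frameM
  · rw [hv, norm_vec, h1]
  · rw [dotA, hv]
    show 4 * vec l (pt 0) + 4 * vec l (pt 1) = 0
    rw [vec_pt _ (by norm_num), vec_pt _ (by norm_num)]
    omega
  · rw [dot_comm, hv, vec_W0, dot_vec_vec, h3]

theorem frB : ∃ g : Co0, g • A = A ∧ g • W0 = W0 ∧ g • VB = B :=
  frame_vec (l := lB) rfl (by decide +kernel) (by decide +kernel) (by decide +kernel)
theorem frC : ∃ g : Co0, g • A = A ∧ g • W0 = W0 ∧ g • VC = B :=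
  frame_vec (l := lC) rfl (by decide +kernel) (by decide +kernel) (by decide +kernel)
theorem fr2 : ∃ g : Co0, g • A = A ∧ g • W0 = W0 ∧ g • V2 = B :=
  frame_vec (l := l2) rfl (by decide +kernel) (by decide +kernel) (by decide +kernel)

theorem P_O1 : P ∈ O1 := (pt_mem (by norm_num)).2 (by decide)
theorem Q_O1 : Q ∈ O1 := (pt_mem (by norm_num)).2 (by decide)
theorem R_O1 : R ∉ O1 := fun h => absurd ((pt_mem (by norm_num)).1 h) (by decide)
theorem P_C1 : P ∉ C1 := fun h => absurd ((pt_mem (by norm_num)).1 h) (by decide)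
theorem Q_C1 : Q ∈ C1 := (pt_mem (by norm_num)).2 (by decide)
theorem R_C1 : R ∉ C1 := fun h => absurd ((pt_mem (by norm_num)).1 h) (by decide)
theorem P_O2 : P ∈ O2 := (pt_mem (by norm_num)).2 (by decide)
theorem Q_O2 : Q ∈ O2 := (pt_mem (by norm_num)).2 (by decide)
theorem R_O2 : R ∈ O2 := (pt_mem (by norm_num)).2 (by decide)
theorem P_C2 : P ∉ C2 := fun h => absurd ((pt_mem (by norm_num)).1 h) (by decide)
theorem Q_C2 : Q ∈ C2 := (pt_mem (by norm_num)).2 (by decide)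
theorem R_C2 : R ∈ C2 := (pt_mem (by norm_num)).2 (by decide)

theorem dVB : dotInt (VB : GolayPt → ℤ) (twoInd O1 O1_mem) = -16 := by
  show dotInt (vec lB) (twoInd O1 O1_mem) = -16
  rw [vec_twoInd O1_mem rfl, dot_vec_vec]; decide +kernel
theorem dVC : dotInt (VC : GolayPt → ℤ) (oddV C1 C1_mem.1 Q) = -16 := by
  show dotInt (vec lC) (oddV C1 C1_mem.1 Q) = -16
  rw [vec_oddV C1_mem.1 rfl, dot_vec_vec]; decide +kernel
theorem dV2O : dotInt (V2 : GolayPt → ℤ) (twoInd O2 O2_mem) = -16 := by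
  show dotInt (vec l2) (twoInd O2 O2_mem) = -16
  rw [vec_twoInd O2_mem rfl, dot_vec_vec]; decide +kernel
theorem dV2C : dotInt (V2 : GolayPt → ℤ) (oddV C2 C2_mem.1 Q) = 0 := by
  show dotInt (vec l2) (oddV C2 C2_mem.1 Q) = 0
  rw [vec_oddV C2_mem.1 rfl, dot_vec_vec]; decide +kernel
theorem dX0 {l : List ℤ} {v' : leechLattice} (hv : (v' : GolayPt → ℤ) = vec l) {n : ℤ}
    (h : 4 * l.getD 1 0 + 4 * l.getD 2 0 = n) : dotInt (X0 : GolayPt → ℤ) v' = n := by
  rw [dotX0, hv]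
  show 4 * vec l (pt 1) + 4 * vec l (pt 2) = n
  rw [vec_pt _ (by norm_num), vec_pt _ (by norm_num), h]
theorem dVCX : dotInt (X0 : GolayPt → ℤ) VC = -16 := dX0 (l := lC) rfl (by decide)
theorem dV2X : dotInt (X0 : GolayPt → ℤ) V2 = -16 := dX0 (l := l2) rfl (by decide)

/-- permutation of the octads -/
theorem moveB {O O' : Finset GolayPt} (hO : O ∈ octads) (hO' : O' ∈ octads) (h1 : P ∈ O) (h2 : Q ∈ O)
    (h1' : P ∈ O') (h2' : Q ∈ O') : ∃ σ ∈ M24, σ P = P ∧ σ Q = Q ∧ O.image σ = O' := by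
  obtain ⟨w, hw⟩ := H33.M24Fin.exists_notMem hO
  obtain ⟨w', hw'⟩ := H33.M24Fin.exists_notMem hO'
  obtain ⟨σ, hσ, h3, -, h4⟩ := H33.M24Move.move hO hO' [P, Q] [P, Q] (by simp [PQ]) (by simp [PQ]) rfl (by simp)
    (by simp [h1, h2]) (by simp [h1', h2']) w w' hw hw'
  simp only [List.map_cons, List.map_nil, List.cons.injEq, and_true] at h3
  exact ⟨σ, hσ, h3.1, h3.2, h4⟩

/-- canonical form of a McLaughlin point -/
theorem tripleM {x : leechLattice} (h : InM x) : ∃ g : Co0, g • A = A ∧ g • W0 = W0 ∧ g • x = X0 := by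
  have step : ∀ {y v' : leechLattice} (_ : InM y) (_ : ∃ g : Co0, g • A = A ∧ g • W0 = W0 ∧ g • v' = B)
      (_ : dotInt (v' : GolayPt → ℤ) y = -16), ∃ g : Co0, g • A = A ∧ g • W0 = W0 ∧ g • y = X0 := by
    rintro y v' hy ⟨g, h1, h2, h3⟩ hd
    obtain ⟨g', h4, -, h5, h6⟩ := canonA (hy.smul h1 h2) (by rw [← h3, co0_dot, hd])
    exact ⟨g' * g, by rw [mul_smul, h1, h4], by rw [mul_smul, h2, h5], by rw [mul_smul, h6]⟩
  rcases shapesM h.n h.a h.w with ⟨j, hj, hj', rfl⟩ | ⟨O, hO, hP, hQ, rfl⟩ | ⟨C, hC, hP, hQ, rfl⟩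
  · obtain ⟨g, h1, -, h2, h3⟩ := canonA h (by rw [dotB, E_P j hj, E_Q j hj']; norm_num)
    exact ⟨g, h1, h2, h3⟩
  · obtain ⟨σ, hσ, h1, h2, h3⟩ := moveB hO O1_mem hP hQ P_O1 Q_O1
    have h4 := pm_twoInd hσ hO O1_mem h3
    have h5 := h.smul (pm_A hσ h1 h2) (pm_W0 hσ h1)
    rw [h4] at h5
    obtain ⟨g, h6, h7, h8⟩ := step h5 frB dVB
    exact ⟨g * pm σ hσ, by rw [mul_smul, pm_A hσ h1 h2, h6], by rw [mul_smul, pm_W0 hσ h1, h7],
      by rw [mul_smul, h4, h8]⟩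
  · obtain ⟨σ, hσ, h3, h1, h3'⟩ := H33.M24Move.move hC C1_mem [Q] [Q] (List.nodup_singleton _)
      (List.nodup_singleton _) rfl (by simp) (by simpa using hQ) (by simpa using Q_C1) P P hP P_C1
    have h2 : σ Q = Q := by simpa using h3
    have h4 := pm_oddV hσ hC.1 C1_mem.1 h3' h2
    have h5 := h.smul (pm_A hσ h1 h2) (pm_W0 hσ h1)
    rw [h4] at h5
    obtain ⟨g, h6, h7, h8⟩ := step h5 frC dVC
    exact ⟨g * pm σ hσ, by rw [mul_smul, pm_A hσ h1 h2, h6], by rw [mul_smul, pm_W0 hσ h1, h7],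
      by rw [mul_smul, h4, h8]⟩

end H33.Leech7
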