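import Mathlib
import Cfsg.Agent.Lib.H33.Leech7
import Cfsg.Agent.Lib.H33.D1581
set_option autoImplicit false
open Cfsg

/-! Configurations of short vectors in the Leech lattice, VIII: the McLaughlin configuration, counts and rank 3. -/

namespace H33.Leech8
open Finset H9.Leech H9.LeechGood H8.GolayCode H8.GolayCount H8.GolayBasic H33.Leech1 H33.Leech2 H33.Leech3 H33.Leech4 H33.Leech5 H33.Leech6 H33.Leech7

def fA (j : GolayPt) : GolayPt → ℤ := Pi.single Q (4 * 1) + Pi.single j (4 * 1)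
def fB (O : Finset GolayPt) : GolayPt → ℤ := fun i => 2 * ind O i
def fC (C : Finset GolayPt) : GolayPt → ℤ := fun i => eps C i * (if i = Q then -3 else 1)

theorem fA_Q {j : GolayPt} (hj : j ≠ Q) : fA j Q = 4 := E_Q j hj
theorem fB_Q {O : Finset GolayPt} (hO : Q ∈ O) : fB O Q = 2 := by unfold fB; rw [ind_in hO]; rfl
theorem fC_Q {C : Finset GolayPt} (hC : Q ∈ C) : fC C Q = 3 := by unfold fC; rw [eps_in hC, if_pos rfl]; rfl

theorem ncard_fams (JA : Set GolayPt) (OB OC : Set (Finset GolayPt)) (hA : ∀ j ∈ JA, j ≠ Q)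
    (hB : ∀ O ∈ OB, Q ∈ O) (hC : ∀ C ∈ OC, Q ∈ C) :
    (fA '' JA ∪ fB '' OB ∪ fC '' OC).ncard = JA.ncard + OB.ncard + OC.ncard := by
  have iA : Set.InjOn fA JA := by
    intro i hi j hj h
    have h1 := congrFun h i
    have h2 : fA i i = 4 := by
      unfold fA; rw [Pi.add_apply, Pi.single_eq_same, Pi.single_eq_of_ne (hA i hi)]; norm_num
    by_contra hne
    have h3 : fA j i = 0 := by
      unfold fA; rw [Pi.add_apply, Pi.single_eq_of_ne (hA i hi), Pi.single_eq_of_ne hne]; norm_num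
    rw [h2, h3] at h1
    exact absurd h1 (by norm_num)
  have iB : Set.InjOn fB OB := by
    intro O _ O' _ h
    ext i
    have h1 : 2 * ind O i = 2 * ind O' i := congrFun h i
    by_cases h2 : i ∈ O <;> by_cases h3 : i ∈ O'
    · simp [h2, h3]
    · rw [ind_in h2, ind_out h3] at h1; omega
    · rw [ind_out h2, ind_in h3] at h1; omega
    · simp [h2, h3]
  have iC : Set.InjOn fC OC := by
    intro O _ O' _ h
    ext i
    have h1 : eps O i * (if i = Q then -3 else 1) = eps O' i * (if i = Q then -3 else 1) := congrFun h i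
    by_cases h2 : i ∈ O <;> by_cases h3 : i ∈ O'
    · simp [h2, h3]
    · rw [eps_in h2, eps_out h3] at h1; split_ifs at h1 <;> omega
    · rw [eps_out h2, eps_in h3] at h1; split_ifs at h1 <;> omega
    · simp [h2, h3]
  have fin1 : (fA '' JA).Finite := (Set.toFinite JA).image _
  have fin2 : (fB '' OB).Finite := (Set.toFinite OB).image _
  have fin3 : (fC '' OC).Finite := (Set.toFinite OC).image _
  rw [Set.ncard_union_eq _ (fin1.union fin2) fin3, Set.ncard_union_eq _ fin1 fin2,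
    iA.ncard_image, iB.ncard_image, iC.ncard_image]
  · rw [Set.disjoint_left]
    rintro x ⟨j, hj, rfl⟩ ⟨O, hO, h⟩
    have := congrFun h Q
    rw [fA_Q (hA j hj), fB_Q (hB O hO)] at this
    exact absurd this (by norm_num)
  · rw [Set.disjoint_left]
    rintro x (⟨j, hj, rfl⟩ | ⟨O, hO, rfl⟩) ⟨C, hC', h⟩
    · have := congrFun h Q
      rw [fA_Q (hA j hj), fC_Q (hC C hC')] at this
      exact absurd this (by norm_num)
    · have := congrFun h Q
      rw [fB_Q (hB O hO), fC_Q (hC C hC')] at this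
      exact absurd this (by norm_num)

theorem InM_A {j : GolayPt} (hP : j ≠ P) (hQ : j ≠ Q) : InM (E Q j 1 1 ⟨1, rfl⟩) := by
  refine ⟨by rw [norm_E (Ne.symm hQ)]; norm_num, by rw [dotA, E_P j hP, E_Q j hQ]; norm_num, ?_⟩
  rw [dot_comm, dot_E, coe_W0, coe_W0, if_neg PQ.symm, if_neg hP]; norm_num

theorem InM_B {O : Finset GolayPt} (hO : O ∈ octads) (hP : P ∈ O) (hQ : Q ∈ O) : InM (twoInd O hO) := by
  refine ⟨?_, by rw [dotA, coe_twoInd, coe_twoInd, ind_in hP, ind_in hQ]; norm_num, ?_⟩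
  · unfold sqNorm
    have : ∀ i, (twoInd O hO : GolayPt → ℤ) i ^ 2 = 4 * ind O i := by
      intro i; rw [coe_twoInd]; unfold ind; split_ifs <;> norm_num
    rw [sum_congr rfl fun i _ => this i, ← mul_sum, sum_ind, hO.2]; norm_num
  · rw [dotW0, sum_congr rfl fun i _ => coe_twoInd hO i, ← mul_sum, sum_ind, hO.2, coe_twoInd, ind_in hP]; norm_num

theorem InM_C {C : Finset GolayPt} (hC : C ∈ octads) (hP : P ∉ C) (hQ : Q ∈ C) : InM (oddV C hC.1 Q) := by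
  refine ⟨?_, by rw [dotA, coe_oddV, coe_oddV, eps_out hP, eps_in hQ, if_neg PQ, if_pos rfl]; norm_num, ?_⟩
  · unfold sqNorm
    have : ∀ i, (oddV C hC.1 Q : GolayPt → ℤ) i ^ 2 = 1 + 8 * (if i = Q then 1 else 0) := by
      intro i; rw [coe_oddV]
      have := eps_sq C i
      split_ifs <;> linarith [this]
    rw [sum_congr rfl fun i _ => this i, sum_add_distrib, ← mul_sum, sum_ite_eq' univ Q, if_pos (mem_univ _),
      Finset.sum_const, card_univ, card_pt]; norm_num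
  · rw [dotW0, sum_congr rfl fun i _ => coe_oddV hC.1 Q i, sum_odd, coe_oddV, eps_in hQ, eps_out hP, if_neg PQ, hC.2]
    norm_num

/-- the McLaughlin set, with a condition on the value at `R` -/
theorem setM (p : ℤ → Prop) : (fun x : leechLattice => (x : GolayPt → ℤ)) '' {x | InM x ∧ p (dotInt (X0 : GolayPt → ℤ) x)} =
    fA '' {j | (j ≠ P ∧ j ≠ Q) ∧ p (if j = R then 32 else 16)} ∪
    fB '' {O | O ∈ octads ∧ (P ∈ O ∧ Q ∈ O) ∧ p (if R ∈ O then 16 else 8)} ∪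
    fC '' {C | C ∈ octads ∧ (P ∉ C ∧ Q ∈ C) ∧ p (if R ∈ C then 8 else 16)} := by
  have dA : ∀ j, j ≠ Q → dotInt (X0 : GolayPt → ℤ) (E Q j 1 1 ⟨1, rfl⟩ : leechLattice) = if j = R then 32 else 16 := by
    intro j hj
    rw [dotX0, E_Q j hj, coe_E, Pi.add_apply, Pi.single_eq_of_ne QR.symm]
    by_cases h : j = R
    · rw [if_pos h, h, Pi.single_eq_same]; norm_num
    · rw [if_neg h, Pi.single_eq_of_ne (Ne.symm h)]; norm_num
  have dB : ∀ O, ∀ hO : O ∈ octads, Q ∈ O → dotInt (X0 : GolayPt → ℤ) (twoInd O hO : leechLattice) =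
      if R ∈ O then 16 else 8 := by
    intro O hO h
    rw [dotX0, coe_twoInd, coe_twoInd, ind_in h]
    unfold ind; split_ifs <;> norm_num
  have dC : ∀ C, ∀ hC : C ∈ octads, Q ∈ C → dotInt (X0 : GolayPt → ℤ) (oddV C hC.1 Q : leechLattice) =
      if R ∈ C then 8 else 16 := by
    intro C hC h
    rw [dotX0, coe_oddV, coe_oddV, eps_in h, if_pos rfl, if_neg QR.symm]
    unfold eps; split_ifs <;> norm_num
  ext x
  simp only [Set.mem_union, Set.mem_image, Set.mem_ofPred_eq]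
  constructor
  · rintro ⟨y, ⟨hy, hp⟩, rfl⟩
    rcases shapesM hy.n hy.a hy.w with ⟨j, hj, hj', rfl⟩ | ⟨O, hO, hP, hQ, rfl⟩ | ⟨C, hC, hP, hQ, rfl⟩
    · left; left
      rw [dA j hj'] at hp
      exact ⟨j, ⟨⟨hj, hj'⟩, hp⟩, rfl⟩
    · left; right
      rw [dB O hO hQ] at hp
      exact ⟨O, ⟨hO, ⟨hP, hQ⟩, hp⟩, rfl⟩
    · right
      rw [dC C hC hQ] at hp
      exact ⟨C, ⟨hC, ⟨hP, hQ⟩, hp⟩, (funext fun i => (coe_oddV hC.1 Q i).symm)⟩
  · rintro ((⟨j, ⟨⟨hj, hj'⟩, hp⟩, rfl⟩ | ⟨O, ⟨hO, ⟨hP, hQ⟩, hp⟩, rfl⟩) | ⟨C, ⟨hC, ⟨hP, hQ⟩, hp⟩, rfl⟩)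
    · exact ⟨E Q j 1 1 ⟨1, rfl⟩, ⟨InM_A hj hj', by rw [dA j hj']; exact hp⟩, rfl⟩
    · exact ⟨twoInd O hO, ⟨InM_B hO hP hQ, by rw [dB O hO hQ]; exact hp⟩, rfl⟩
    · exact ⟨oddV C hC.1 Q, ⟨InM_C hC hP hQ, by rw [dC C hC hQ]; exact hp⟩, (funext fun i => coe_oddV hC.1 Q i)⟩

theorem ncardM (p : ℤ → Prop) : {x | InM x ∧ p (dotInt (X0 : GolayPt → ℤ) x)}.ncard =
    {j | (j ≠ P ∧ j ≠ Q) ∧ p (if j = R then 32 else 16)}.ncard +
    {O : Finset GolayPt | O ∈ octads ∧ (P ∈ O ∧ Q ∈ O) ∧ p (if R ∈ O then 16 else 8)}.ncard +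
    {C : Finset GolayPt | C ∈ octads ∧ (P ∉ C ∧ Q ∈ C) ∧ p (if R ∈ C then 8 else 16)}.ncard := by
  rw [← Set.ncard_image_of_injective _ (Subtype.val_injective (p := fun x => x ∈ leechLattice))]
  have := setM p
  rw [show (Subtype.val '' {x | InM x ∧ p (dotInt (X0 : GolayPt → ℤ) x)} : Set (GolayPt → ℤ)) = _ from this]
  exact ncard_fams _ _ _ (fun j h => h.1.2) (fun O h => h.2.1.2) (fun C h => h.2.1.2)

theorem card_two : {j : GolayPt | j ≠ P ∧ j ≠ Q}.ncard = 22 := by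
  have : {j : GolayPt | j ≠ P ∧ j ≠ Q} = ↑((univ.erase P).erase Q) := by
    ext j; simp
  rw [this, Set.ncard_coe_finset, card_erase_of_mem (by simp [PQ.symm]), card_erase_of_mem (mem_univ _), card_univ, card_pt]

theorem card_three : {j : GolayPt | (j ≠ P ∧ j ≠ Q) ∧ j ≠ R}.ncard = 21 := by
  have : {j : GolayPt | (j ≠ P ∧ j ≠ Q) ∧ j ≠ R} = ↑(((univ.erase P).erase Q).erase R) := by
    ext j; simp
  rw [this, Set.ncard_coe_finset, card_erase_of_mem (by simp [PR.symm, QR.symm]), card_erase_of_mem (by simp [PQ.symm]),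
    card_erase_of_mem (mem_univ _), card_univ, card_pt]

theorem bit0 (n : ℕ) : P ∈ H33.M24Tab.D n ↔ n.testBit 0 = true := H33.M24Cls.pt_mem_D (by norm_num)
theorem bit1 (n : ℕ) : Q ∈ H33.M24Tab.D n ↔ n.testBit 1 = true := H33.M24Cls.pt_mem_D (by norm_num)
theorem bit2 (n : ℕ) : R ∈ H33.M24Tab.D n ↔ n.testBit 2 = true := H33.M24Cls.pt_mem_D (by norm_num)

theorem cB : {O : Finset GolayPt | O ∈ octads ∧ P ∈ O ∧ Q ∈ O}.ncard = 77 := by
  rw [H33.M24Cls.ncard_octads (fun O => P ∈ O ∧ Q ∈ O) H33.D1581.PB fun k => by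
    rw [bit0, bit1]; simp only [H33.D1581.PB, Bool.and_eq_true, Nat.beq_eq]; tauto]
  exact H33.D1581.nB
theorem cD : {O : Finset GolayPt | O ∈ octads ∧ P ∉ O ∧ Q ∈ O}.ncard = 176 := by
  rw [H33.M24Cls.ncard_octads (fun O => P ∉ O ∧ Q ∈ O) H33.D1581.PD fun k => by
    rw [bit0, bit1]; simp only [H33.D1581.PD, Bool.and_eq_true, Nat.beq_eq, Bool.not_eq_true', Bool.not_eq_true]; tauto]
  exact H33.D1581.nD
theorem cBR : {O : Finset GolayPt | O ∈ octads ∧ P ∈ O ∧ Q ∈ O ∧ R ∈ O}.ncard = 21 := by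
  rw [H33.M24Cls.ncard_octads (fun O => P ∈ O ∧ Q ∈ O ∧ R ∈ O) H33.D1581.PBR fun k => by
    rw [bit0, bit1, bit2]; simp only [H33.D1581.PBR, Bool.and_eq_true, Nat.beq_eq]; tauto]
  exact H33.D1581.nBR
theorem cBn : {O : Finset GolayPt | O ∈ octads ∧ P ∈ O ∧ Q ∈ O ∧ R ∉ O}.ncard = 56 := by
  rw [H33.M24Cls.ncard_octads (fun O => P ∈ O ∧ Q ∈ O ∧ R ∉ O) H33.D1581.PBn fun k => by
    rw [bit0, bit1, bit2]; simp only [H33.D1581.PBn, Bool.and_eq_true, Nat.beq_eq, Bool.not_eq_true', Bool.not_eq_true]; tauto]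
  exact H33.D1581.nBn
theorem cDR : {O : Finset GolayPt | O ∈ octads ∧ P ∉ O ∧ Q ∈ O ∧ R ∈ O}.ncard = 56 := by
  rw [H33.M24Cls.ncard_octads (fun O => P ∉ O ∧ Q ∈ O ∧ R ∈ O) H33.D1581.PDR fun k => by
    rw [bit0, bit1, bit2]; simp only [H33.D1581.PDR, Bool.and_eq_true, Nat.beq_eq, Bool.not_eq_true', Bool.not_eq_true]; tauto]
  exact H33.D1581.nDR
theorem cDn : {O : Finset GolayPt | O ∈ octads ∧ P ∉ O ∧ Q ∈ O ∧ R ∉ O}.ncard = 120 := by
  rw [H33.M24Cls.ncard_octads (fun O => P ∉ O ∧ Q ∈ O ∧ R ∉ O) H33.D1581.PDn fun k => by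
    rw [bit0, bit1, bit2]; simp only [H33.D1581.PDn, Bool.and_eq_true, Nat.beq_eq, Bool.not_eq_true', Bool.not_eq_true]; tauto]
  exact H33.D1581.nDn

theorem count275 : {x | InM x}.ncard = 275 := by
  have h := ncardM (fun _ => True)
  simp only [and_true] at h
  rw [h, card_two, cB, cD]

theorem count112 : {x | InM x ∧ dotInt (X0 : GolayPt → ℤ) x = 8}.ncard = 112 := by
  have h := ncardM (fun n => n = 8)
  rw [h]
  have h1 : {j : GolayPt | (j ≠ P ∧ j ≠ Q) ∧ (if j = R then (32 : ℤ) else 16) = 8} = ∅ := by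
    ext j; simp only [Set.mem_ofPred_eq, Set.mem_empty_iff_false, iff_false]
    rintro ⟨-, h⟩; split_ifs at h <;> omega
  have h2 : {O : Finset GolayPt | O ∈ octads ∧ (P ∈ O ∧ Q ∈ O) ∧ (if R ∈ O then (16 : ℤ) else 8) = 8} =
      {O : Finset GolayPt | O ∈ octads ∧ P ∈ O ∧ Q ∈ O ∧ R ∉ O} := by
    ext O; simp only [Set.mem_ofPred_eq]
    by_cases hR : R ∈ O <;> simp [hR]
  have h3 : {O : Finset GolayPt | O ∈ octads ∧ (P ∉ O ∧ Q ∈ O) ∧ (if R ∈ O then (8 : ℤ) else 16) = 8} =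
      {O : Finset GolayPt | O ∈ octads ∧ P ∉ O ∧ Q ∈ O ∧ R ∈ O} := by
    ext O; simp only [Set.mem_ofPred_eq]
    by_cases hR : R ∈ O <;> simp [hR]
  rw [h1, h2, h3, Set.ncard_empty, cBn, cDR]

theorem count162 : {x | InM x ∧ dotInt (X0 : GolayPt → ℤ) x = 16}.ncard = 162 := by
  have h := ncardM (fun n => n = 16)
  rw [h]
  have h1 : {j : GolayPt | (j ≠ P ∧ j ≠ Q) ∧ (if j = R then (32 : ℤ) else 16) = 16} =
      {j : GolayPt | (j ≠ P ∧ j ≠ Q) ∧ j ≠ R} := by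
    ext j; simp only [Set.mem_ofPred_eq]
    by_cases hR : j = R <;> simp [hR]
  have h2 : {O : Finset GolayPt | O ∈ octads ∧ (P ∈ O ∧ Q ∈ O) ∧ (if R ∈ O then (16 : ℤ) else 8) = 16} =
      {O : Finset GolayPt | O ∈ octads ∧ P ∈ O ∧ Q ∈ O ∧ R ∈ O} := by
    ext O; simp only [Set.mem_ofPred_eq]
    by_cases hR : R ∈ O <;> simp [hR]
  have h3 : {O : Finset GolayPt | O ∈ octads ∧ (P ∉ O ∧ Q ∈ O) ∧ (if R ∈ O then (8 : ℤ) else 16) = 16} =
      {O : Finset GolayPt | O ∈ octads ∧ P ∉ O ∧ Q ∈ O ∧ R ∉ O} := by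
    ext O; simp only [Set.mem_ofPred_eq]
    by_cases hR : R ∈ O <;> simp [hR]
  rw [h1, h2, h3, card_three, cBR, cDn]

/-- transport of counts -/
theorem ncard_smul (g : Co0) (S T : Set leechLattice) (h : ∀ x, x ∈ S ↔ g • x ∈ T) : S.ncard = T.ncard := by
  have : T = (fun x => g • x) '' S := by
    ext y
    constructor
    · intro hy
      refine ⟨g⁻¹ • y, ?_, smul_inv_smul g y⟩
      rw [h, smul_inv_smul]; exact hy
    · rintro ⟨x, hx, rfl⟩
      exact (h x).1 hx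
  rw [this, Set.ncard_image_of_injective _ (MulAction.injective g)]

end H33.Leech8
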