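import Mathlib
import Cfsg.Agent.Lib.H33.Leech8
set_option autoImplicit false
open Cfsg

/-! Configurations of short vectors in the Leech lattice, IX: the McLaughlin configuration, rank 3. -/

namespace H33.Leech9
open Finset H9.Leech H9.LeechGood H8.GolayCode H8.GolayCount H8.GolayBasic H33.Leech1 H33.Leech2 H33.Leech3 H33.Leech4 H33.Leech5 H33.Leech6 H33.Leech7 H33.Leech8

/-- pairs as in the hypotheses on `(u, v)` -/
theorem toM {u v : leechLattice} (hu : sqNorm (u : GolayPt → ℤ) = 48)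
    (hv : sqNorm (v : GolayPt → ℤ) = 32 ∧ sqNorm ((u - v) : GolayPt → ℤ) = 32) :
    ∃ g : Co0, g • v = A ∧ g • (u - v) = W0 ∧ ∀ x : leechLattice, (sqNorm (x : GolayPt → ℤ) = 32 ∧
      sqNorm ((u - x) : GolayPt → ℤ) = 32 ∧ dotInt (v : GolayPt → ℤ) (x : GolayPt → ℤ) = 16) ↔ InM (g • x) := by
  have hd : dotInt (v : GolayPt → ℤ) ((u - v : leechLattice) : GolayPt → ℤ) = -8 := by
    have h1 : (u : GolayPt → ℤ) = v + (u - v) := by abel
    have h2 := H9.Leech.sqNorm_add (v : GolayPt → ℤ) ((u : GolayPt → ℤ) - v)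
    rw [← h1, hu, hv.1, hv.2] at h2
    rw [AddSubgroup.coe_sub]
    linarith
  obtain ⟨g, h1, h2⟩ := pairC hv.1 (w := u - v) (by rw [AddSubgroup.coe_sub]; exact hv.2) hd
  refine ⟨g, h1, h2, fun x => ?_⟩
  have h3 : sqNorm ((u - x) : GolayPt → ℤ) = 48 + sqNorm (x : GolayPt → ℤ) - 2 * dotInt (u : GolayPt → ℤ) x := by
    rw [← dot_self, dot_sub, dot_comm (u : GolayPt → ℤ), dot_comm (x : GolayPt → ℤ) ((u : GolayPt → ℤ) - x), dot_sub,
      dot_sub, dot_self, dot_self, hu, dot_comm (x : GolayPt → ℤ) u]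
    ring
  have h4 : dotInt (u : GolayPt → ℤ) x = dotInt (v : GolayPt → ℤ) x + dotInt ((u - v : leechLattice) : GolayPt → ℤ) x := by
    rw [AddSubgroup.coe_sub, dot_sub]; ring
  have h5 : dotInt (A : GolayPt → ℤ) ((g • x : leechLattice) : GolayPt → ℤ) = dotInt (v : GolayPt → ℤ) x := by
    rw [← h1, co0_dot]
  have h6 : dotInt (W0 : GolayPt → ℤ) ((g • x : leechLattice) : GolayPt → ℤ) =
      dotInt ((u - v : leechLattice) : GolayPt → ℤ) x := by
    rw [← h2, co0_dot]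
  constructor
  · rintro ⟨k1, k2, k3⟩
    refine ⟨by rw [co0_norm, k1], by rw [h5, k3], ?_⟩
    rw [h6]
    rw [h3, h4, k1, k3] at k2
    linarith
  · rintro ⟨k1, k2, k3⟩
    rw [co0_norm] at k1
    rw [h5] at k2
    rw [h6] at k3
    refine ⟨k1, ?_, k2⟩
    rw [h3, h4, k1, k2, k3]
    norm_num

/-- fixing `u` from fixing `v` and `u - v` -/
theorem fix_u {u v : leechLattice} {g g' : Co0} (h1 : g • v = g' • v) (h2 : g • (u - v) = g' • (u - v)) :
    g • u = g' • u := by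
  have : g • (v + (u - v)) = g' • (v + (u - v)) := by rw [co0_add, co0_add, h1, h2]
  rwa [add_sub_cancel] at this

def Y16 : leechLattice := E Q S 1 1 ⟨1, rfl⟩
def Y8 : leechLattice := twoInd O1 O1_mem

theorem case16A {j : GolayPt} (hP : j ≠ P) (hQ : j ≠ Q) (hR : j ≠ R) :
    ∃ g : Co0, g • A = A ∧ g • W0 = W0 ∧ g • X0 = X0 ∧ g • E Q j 1 1 ⟨1, rfl⟩ = Y16 := by
  obtain ⟨σ, hσ, hσl⟩ := trans_list [P, Q, R, j] [P, Q, R, S]
    (by simp [PQ, PR, QR, Ne.symm hP, Ne.symm hQ, Ne.symm hR])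
    (by simp [PQ, PR, QR, PS, QS, RS]) rfl (by simp)
  simp only [List.map_cons, List.map_nil, List.cons.injEq, and_true] at hσl
  obtain ⟨hσP, hσQ, hσR, hσj⟩ := hσl
  refine ⟨pm σ hσ, pm_A hσ hσP hσQ, pm_W0 hσ hσP, ?_, ?_⟩
  · unfold X0; rw [pm_E, hσQ, hσR]
  · rw [pm_E, hσQ, hσj]; rfl

/-- change of frame keeping `A`, `W0`, `X0` -/
theorem frameX {v' : leechLattice} (hf : ∃ g : Co0, g • A = A ∧ g • W0 = W0 ∧ g • v' = B)
    (hX : dotInt (X0 : GolayPt → ℤ) v' = -16) : ∃ g : Co0, g • A = A ∧ g • W0 = W0 ∧ g • X0 = X0 ∧ g • v' = B := by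
  obtain ⟨g, h1, h2, h3⟩ := hf
  have hX0 : InM X0 := InM_A PR.symm QR.symm
  obtain ⟨g', h4, h5, h6, h7⟩ := canonA (hX0.smul h1 h2) (by rw [← h3, co0_dot, dot_comm, hX])
  exact ⟨g' * g, by rw [mul_smul, h1, h4], by rw [mul_smul, h2, h6], by rw [mul_smul, h7], by rw [mul_smul, h3, h5]⟩

/-- after a change of frame the point is in family A -/
theorem step16 {y v' : leechLattice} (hy : InM y) (hyX : dotInt (X0 : GolayPt → ℤ) y = 16)
    (hf : ∃ g : Co0, g • A = A ∧ g • W0 = W0 ∧ g • v' = B)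
    (hX : dotInt (X0 : GolayPt → ℤ) v' = -16) (hd : dotInt (v' : GolayPt → ℤ) y = -16) :
    ∃ g : Co0, g • A = A ∧ g • W0 = W0 ∧ g • X0 = X0 ∧ g • y = Y16 := by
  obtain ⟨g, h1, h2, h3, h4⟩ := frameX hf hX
  obtain ⟨j, hj, hj', h5⟩ := famA (hy.smul h1 h2) (by rw [← h4, co0_dot, hd])
  have hjR : j ≠ R := by
    rintro rfl
    have : dotInt ((g • X0 : leechLattice) : GolayPt → ℤ) ((g • y : leechLattice) : GolayPt → ℤ) = 16 := by
      rw [co0_dot, hyX]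
    rw [h3, h5, dotX0, E_Q _ hj', coe_E, Pi.add_apply, Pi.single_eq_same, Pi.single_eq_of_ne hj'] at this
    omega
  obtain ⟨g', k1, k2, k3, k4⟩ := case16A hj hj' hjR
  exact ⟨g' * g, by rw [mul_smul, h1, k1], by rw [mul_smul, h2, k2], by rw [mul_smul, h3, k3], by rw [mul_smul, h5, k4]⟩

theorem case8B {O : Finset GolayPt} (hO : O ∈ octads) (hP : P ∈ O) (hQ : Q ∈ O) (hR : R ∉ O) :
    ∃ g : Co0, g • A = A ∧ g • W0 = W0 ∧ g • X0 = X0 ∧ g • twoInd O hO = Y8 := by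
  obtain ⟨σ, hσ, h3, h1, h4⟩ := H33.M24Move.move hO O1_mem [P, Q] [P, Q] (by simp [PQ]) (by simp [PQ]) rfl (by simp)
    (by simp [hP, hQ]) (by simp [P_O1, Q_O1]) R R hR R_O1
  simp only [List.map_cons, List.map_nil, List.cons.injEq, and_true] at h3
  refine ⟨pm σ hσ, pm_A hσ h3.1 h3.2, pm_W0 hσ h3.1, ?_, pm_twoInd hσ hO O1_mem h4⟩
  unfold X0; rw [pm_E, h3.2, h1]

theorem step8 {y v' : leechLattice} (hy : InM y) (hyX : dotInt (X0 : GolayPt → ℤ) y = 8)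
    (hf : ∃ g : Co0, g • A = A ∧ g • W0 = W0 ∧ g • v' = B)
    (hX : dotInt (X0 : GolayPt → ℤ) v' = -16) (hd : dotInt (v' : GolayPt → ℤ) y = 0) :
    ∃ g : Co0, g • A = A ∧ g • W0 = W0 ∧ g • X0 = X0 ∧ g • y = Y8 := by
  obtain ⟨g, h1, h2, h3, h4⟩ := frameX hf hX
  obtain ⟨O, hO, hP, hQ, h5⟩ := famB (hy.smul h1 h2) (by rw [← h4, co0_dot, hd])
  have hR : R ∉ O := by
    intro hR
    have : dotInt ((g • X0 : leechLattice) : GolayPt → ℤ) ((g • y : leechLattice) : GolayPt → ℤ) = 8 := by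
      rw [co0_dot, hyX]
    rw [h3, h5, dotX0, coe_twoInd, coe_twoInd, ind_in hQ, ind_in hR] at this
    omega
  obtain ⟨g', k1, k2, k3, k4⟩ := case8B hO hP hQ hR
  exact ⟨g' * g, by rw [mul_smul, h1, k1], by rw [mul_smul, h2, k2], by rw [mul_smul, h3, k3], by rw [mul_smul, h5, k4]⟩

theorem quad8 {y : leechLattice} (hy : InM y) (hyX : dotInt (X0 : GolayPt → ℤ) y = 8) :
    ∃ g : Co0, g • A = A ∧ g • W0 = W0 ∧ g • X0 = X0 ∧ g • y = Y8 := by
  rcases shapesM hy.n hy.a hy.w with ⟨j, hj, hj', rfl⟩ | ⟨O, hO, hP, hQ, rfl⟩ | ⟨C, hC, hP, hQ, rfl⟩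
  · exfalso
    rw [dotX0, E_Q _ hj', coe_E, Pi.add_apply, Pi.single_eq_of_ne QR.symm] at hyX
    by_cases h : j = R
    · rw [h, Pi.single_eq_same] at hyX; omega
    · rw [Pi.single_eq_of_ne (Ne.symm h)] at hyX; omega
  · have hR : R ∉ O := by
      intro hR
      rw [dotX0, coe_twoInd, coe_twoInd, ind_in hQ, ind_in hR] at hyX
      omega
    exact case8B hO hP hQ hR
  · have hR : R ∈ C := by
      by_contra hR
      rw [dotX0, coe_oddV, coe_oddV, eps_in hQ, eps_out hR, if_pos rfl, if_neg QR.symm] at hyX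
      omega
    obtain ⟨σ, hσ, h3, h1, h4⟩ := H33.M24Move.move hC C2_mem [Q, R] [Q, R] (by simp [QR]) (by simp [QR]) rfl (by simp)
      (by simp [hQ, hR]) (by simp [Q_C2, R_C2]) P P hP P_C2
    simp only [List.map_cons, List.map_nil, List.cons.injEq, and_true] at h3
    have k1 := pm_A hσ h1 h3.1
    have k2 := pm_W0 hσ h1
    have k3 : pm σ hσ • X0 = X0 := by unfold X0; rw [pm_E, h3.1, h3.2]
    have k4 := pm_oddV hσ hC.1 C2_mem.1 h4 h3.1
    have hy' := hy.smul k1 k2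
    rw [k4] at hy'
    obtain ⟨g, m1, m2, m3, m4⟩ := step8 hy' (by
      rw [← k4]
      conv_lhs => rw [← k3]
      rw [co0_dot, hyX]) fr2 dV2X dV2C
    exact ⟨g * pm σ hσ, by rw [mul_smul, k1, m1], by rw [mul_smul, k2, m2], by rw [mul_smul, k3, m3],
      by rw [mul_smul, k4, m4]⟩

/-- the octads through `Q` avoiding `P` and `R` are one class -/
theorem class3 {C : Finset GolayPt} (hC : C ∈ octads) (hP : P ∉ C) (hQ : Q ∈ C) (hR : R ∉ C) :
    ∃ σ ∈ M24, σ P = P ∧ σ Q = Q ∧ σ R = R ∧ C.image σ = C1 := by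
  obtain ⟨σ, hσ, h1, -, h2⟩ := H33.M24Fin.conj_cls [0, 1, 2] [] H33.D1581.ts H33.D1581.ts_ok _ H33.D1581.stC
    H33.D1581.stC_ok _ H33.D1581.LC_ok H33.D1581.PC H33.D1581.PC_ok (fun O => P ∉ O ∧ Q ∈ O ∧ R ∉ O)
    (fun k h8 hk => by
      rw [bit0, bit1, bit2] at hk
      simp only [H33.D1581.PC, Bool.and_eq_true, Nat.beq_eq, Bool.not_eq_true']
      simp only [Bool.not_eq_true] at hk
      exact ⟨⟨⟨hk.2.1, hk.1⟩, hk.2.2⟩, h8⟩) (g := 1) one_mem hC C1_mem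
    (by simpa using ⟨hP, hQ, hR⟩) (by simpa using ⟨P_C1, Q_C1, R_C1⟩)
  exact ⟨σ, hσ, h1 0 (by simp), h1 1 (by simp), h1 2 (by simp), h2⟩

theorem quad16 {y : leechLattice} (hy : InM y) (hne : y ≠ X0) (hyX : dotInt (X0 : GolayPt → ℤ) y = 16) :
    ∃ g : Co0, g • A = A ∧ g • W0 = W0 ∧ g • X0 = X0 ∧ g • y = Y16 := by
  rcases shapesM hy.n hy.a hy.w with ⟨j, hj, hj', rfl⟩ | ⟨O, hO, hP, hQ, rfl⟩ | ⟨C, hC, hP, hQ, rfl⟩
  · exact case16A hj hj' (fun h => hne (by subst h; rfl))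
  · have hR : R ∈ O := by
      by_contra hR
      rw [dotX0, coe_twoInd, coe_twoInd, ind_in hQ, ind_out hR] at hyX
      omega
    obtain ⟨w, hw⟩ := H33.M24Fin.exists_notMem hO
    obtain ⟨w', hw'⟩ := H33.M24Fin.exists_notMem O2_mem
    obtain ⟨σ, hσ, h3, -, h4⟩ := H33.M24Move.move hO O2_mem [P, Q, R] [P, Q, R] (by simp [PQ, PR, QR])
      (by simp [PQ, PR, QR]) rfl (by simp)
      (by simp [hP, hQ, hR]) (by simp [P_O2, Q_O2, R_O2]) w w' hw hw'
    simp only [List.map_cons, List.map_nil, List.cons.injEq, and_true] at h3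
    have k1 := pm_A hσ h3.1 h3.2.1
    have k2 := pm_W0 hσ h3.1
    have k3 : pm σ hσ • X0 = X0 := by unfold X0; rw [pm_E, h3.2.1, h3.2.2]
    have k4 := pm_twoInd hσ hO O2_mem h4
    have hy' := hy.smul k1 k2
    rw [k4] at hy'
    obtain ⟨g, m1, m2, m3, m4⟩ := step16 hy' (by
      rw [← k4]
      conv_lhs => rw [← k3]
      rw [co0_dot, hyX]) fr2 dV2X dV2O
    exact ⟨g * pm σ hσ, by rw [mul_smul, k1, m1], by rw [mul_smul, k2, m2], by rw [mul_smul, k3, m3],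
      by rw [mul_smul, k4, m4]⟩
  · have hR : R ∉ C := by
      intro hR
      rw [dotX0, coe_oddV, coe_oddV, eps_in hQ, eps_in hR, if_pos rfl, if_neg QR.symm] at hyX
      omega
    obtain ⟨σ, hσ, h1, h2, h3, h4⟩ := class3 hC hP hQ hR
    have k1 := pm_A hσ h1 h2
    have k2 := pm_W0 hσ h1
    have k3 : pm σ hσ • X0 = X0 := by unfold X0; rw [pm_E, h2, h3]
    have k4 := pm_oddV hσ hC.1 C1_mem.1 h4 h2
    have hy' := hy.smul k1 k2
    rw [k4] at hy'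
    obtain ⟨g, m1, m2, m3, m4⟩ := step16 hy' (by
      rw [← k4]
      conv_lhs => rw [← k3]
      rw [co0_dot, hyX]) frC dVCX dVC
    exact ⟨g * pm σ hσ, by rw [mul_smul, k1, m1], by rw [mul_smul, k2, m2], by rw [mul_smul, k3, m3],
      by rw [mul_smul, k4, m4]⟩

/-- the possible inner products -/
theorem dotM {y : leechLattice} (hy : InM y) (hne : y ≠ X0) : dotInt (X0 : GolayPt → ℤ) y = 8 ∨
    dotInt (X0 : GolayPt → ℤ) y = 16 := by
  rcases shapesM hy.n hy.a hy.w with ⟨j, hj, hj', rfl⟩ | ⟨O, hO, hP, hQ, rfl⟩ | ⟨C, hC, hP, hQ, rfl⟩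
  · right
    have h : j ≠ R := fun h => hne (by subst h; rfl)
    rw [dotX0, E_Q _ hj', coe_E, Pi.add_apply, Pi.single_eq_of_ne QR.symm, Pi.single_eq_of_ne (Ne.symm h)]
    norm_num
  · rw [dotX0, coe_twoInd, coe_twoInd, ind_in hQ]
    by_cases hR : R ∈ O
    · right; rw [ind_in hR]; norm_num
    · left; rw [ind_out hR]; norm_num
  · rw [dotX0, coe_oddV, coe_oddV, eps_in hQ, if_pos rfl, if_neg QR.symm]
    by_cases hR : R ∈ C
    · left; rw [eps_in hR]; norm_num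
    · right; rw [eps_out hR]; norm_num

end H33.Leech9
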